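import Cfsg.Agent.Lib.SDOrder.Local
import Mathlib.GroupTheory.SpecificGroups.ZGroup

/-!
# Facts on `C = C(σ ^ m)` for the order formula, part 1

The cover `L` of index two with its map onto `SL(2,p)`, the arithmetic of the signed prime, the
coprimality for `p ≥ 5`, and the centralisation of `O(C)` by the elements of `L` of order prime to it.
-/

set_option autoImplicit false
set_option linter.style.haveILetI false
set_option linter.unusedSectionVars false

namespace Cfsg.Agent.Lib.SDOrder

open Cfsg.Agent.Lib.SemiQuatDefect.Group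
open Matrix
open scoped MatrixGroups commutatorElement

universe u

/-- The preimage in `C` of the derived group of `C / O(C)`. -/
def cover (C : Type u) [Group C] [(Cfsg.oddCore C).Normal] : Subgroup C :=
  (commutator (C ⧸ Cfsg.oddCore C)).comap (QuotientGroup.mk' (Cfsg.oddCore C))

theorem mem_cover {C : Type u} [Group C] [(Cfsg.oddCore C).Normal] {c : C} :
    c ∈ cover C ↔ QuotientGroup.mk' (Cfsg.oddCore C) c ∈ commutator (C ⧸ Cfsg.oddCore C) := Iff.rfl

theorem CycOdd.isZGroup_of_odd {X : Type u} [Group X] (hX : CycOdd X) {K : Subgroup X}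
    (hK : Odd (Nat.card K)) : IsZGroup K := by
  refine ⟨fun r hr R => ?_⟩
  by_cases hr2 : r = 2
  · subst hr2
    haveI : Fact (Nat.Prime 2) := ⟨hr⟩
    haveI : Finite K := Nat.finite_of_card_ne_zero hK.pos.ne'
    have h1 : Nat.card (R : Subgroup K) = 1 := by
      obtain ⟨a, ha⟩ := R.2.exists_card_eq
      rcases a with _ | a
      · simpa using ha
      · exfalso
        refine hK.not_two_dvd_nat (dvd_trans ?_ (Subgroup.card_subgroup_dvd_card (R : Subgroup K)))
        rw [ha]
        exact dvd_pow_self 2 a.succ_ne_zero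
    haveI := (Nat.card_eq_one_iff_unique.1 h1).1
    infer_instance
  · exact (hX.subgroup K) r hr hr2 R

/-- An element of the derived group of order prime to the odd normal subgroup `N` with cyclic Sylow
subgroups centralises it. -/
theorem comm_of_mem_commutator {C : Type u} [Group C] [Finite C] (hC : CycOdd C) {N : Subgroup C}
    [N.Normal] (hN : Odd (Nat.card N)) {v : C} (hv : v ∈ commutator C)
    (hcop : (orderOf v).Coprime (Nat.card N)) {o : C} (ho : o ∈ N) : Commute v o := by
  haveI : IsZGroup N := hC.isZGroup_of_odd hN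
  haveI : IsCyclic (commutator N) := IsZGroup.isCyclic_commutator _
  haveI : IsCyclic (N ⧸ commutator N) := IsZGroup.isCyclic_abelianization
  let φ : C →* MulAut N := MulAut.conjNormal
  have hab : ∀ {A : Type u} [Group A] [IsCyclic A] (f g : MulAut A), f * g = g * f := by
    intro A _ _ f g
    obtain ⟨e⟩ : Nonempty (MulAut A ≃* (ZMod (Nat.card A))ˣ) := ⟨IsCyclic.mulAutMulEquiv A⟩
    exact e.injective (by rw [map_mul, map_mul, mul_comm])
  -- the automorphism fixes the derived group and the quotient by it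
  have hfix : ∀ a : commutator N, φ v (a : N) = (a : N) := by
    intro a
    let ψ : C →* MulAut (commutator N) :=
      { toFun := fun c =>
          { toFun := fun b => ⟨φ c b, (commutator N).mem_comap.1
              ((Subgroup.Characteristic.fixed (H := commutator N) inferInstance (φ c)).ge b.2)⟩
            invFun := fun b => ⟨(φ c).symm b, (commutator N).mem_comap.1
              ((Subgroup.Characteristic.fixed (H := commutator N) inferInstance (φ c).symm).ge b.2)⟩
            left_inv := fun b => Subtype.ext ((φ c).symm_apply_apply _)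
            right_inv := fun b => Subtype.ext ((φ c).apply_symm_apply _)
            map_mul' := fun b b' => Subtype.ext (map_mul (φ c) _ _) }
        map_one' := MulEquiv.ext fun b => Subtype.ext (by simp)
        map_mul' := fun c d => MulEquiv.ext fun b => Subtype.ext (by simp) }
    have h1 : v ∈ ψ.ker := by
      refine (show commutator C ≤ ψ.ker from ?_) hv
      rw [_root_.commutator_def, Subgroup.commutator_le]
      intro c _ d _
      rw [MonoidHom.mem_ker, map_commutatorElement]
      exact commutatorElement_eq_one_iff_mul_comm.2 (hab _ _)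
    exact congrArg Subtype.val (DFunLike.congr_fun (MonoidHom.mem_ker.1 h1) a)
  have hmod : ∀ k : N, k⁻¹ * φ v k ∈ commutator N := by
    intro k
    let ψ : C →* MulAut (N ⧸ commutator N) :=
      { toFun := fun c => QuotientGroup.congr (commutator N) (commutator N) (φ c)
          (Subgroup.characteristic_iff_map_eq.1 inferInstance (φ c))
        map_one' := MulEquiv.ext fun b => by
          obtain ⟨b, rfl⟩ := QuotientGroup.mk'_surjective (commutator N) b
          simp
        map_mul' := fun c d => MulEquiv.ext fun b => by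
          obtain ⟨b, rfl⟩ := QuotientGroup.mk'_surjective (commutator N) b
          simp only [map_mul, MulAut.mul_apply]
          rfl }
    have h1 : v ∈ ψ.ker := by
      refine (show commutator C ≤ ψ.ker from ?_) hv
      rw [_root_.commutator_def, Subgroup.commutator_le]
      intro c _ d _
      rw [MonoidHom.mem_ker, map_commutatorElement]
      exact commutatorElement_eq_one_iff_mul_comm.2 (hab _ _)
    have h2 := DFunLike.congr_fun (MonoidHom.mem_ker.1 h1) (QuotientGroup.mk k)
    refine QuotientGroup.eq.1 ?_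
    exact h2.symm.trans rfl
  set k : N := ⟨o, ho⟩
  set c : N := k⁻¹ * φ v k with hc
  have hvk : φ v k = k * c := by rw [hc, mul_inv_cancel_left]
  have hvc : φ v c = c := hfix ⟨c, hmod k⟩
  have hiter : ∀ i : ℕ, φ (v ^ i) k = k * c ^ i := by
    intro i
    induction i with
    | zero => simp
    | succ i ih =>
      rw [pow_succ', map_mul, MulAut.mul_apply, ih, map_mul, map_pow, hvk, hvc, mul_assoc, ← pow_succ']
  have h1 := hiter (orderOf v)
  rw [pow_orderOf_eq_one, map_one, MulAut.one_apply, left_eq_mul] at h1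
  have h2 : c = 1 := orderOf_eq_one_iff.1
    (Nat.eq_one_of_dvd_coprimes hcop (orderOf_dvd_of_pow_eq_one h1) (orderOf_dvd_natCard c))
  rw [h2, mul_one] at hvk
  have h3 : v * o * v⁻¹ = o := congrArg Subtype.val hvk
  exact mul_inv_eq_iff_eq_mul.1 h3

namespace LocalHyp

variable {C : Type u} [Group C] [Finite C] {P : Sylow 2 C} {m : ℕ} {σ y : C} {p : ℕ} [hp : Fact p.Prime]
  [(Cfsg.oddCore C).Normal] (h : LocalHyp P m σ y p)

include h

local notation "π₀" => QuotientGroup.mk' (Cfsg.oddCore C)

theorem cover_index_two : (cover C).index = 2 := by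
  rw [cover, Subgroup.index_comap_of_surjective _ (QuotientGroup.mk'_surjective _)]
  exact h.shape.index_two

/-- The map of the cover onto `SL(2,p)`. -/
theorem exists_cover : ∃ φ : cover C →* SpecialLinearGroup (Fin 2) (ZMod p), Function.Surjective φ ∧
    Odd (Nat.card φ.ker) ∧ Nat.card φ.ker = Nat.card (Cfsg.oddCore C) := by
  obtain ⟨e⟩ := h.iso
  let ψ : cover C →* commutator (C ⧸ Cfsg.oddCore C) :=
    (π₀).subgroupComap (commutator (C ⧸ Cfsg.oddCore C))
  have hψ : Function.Surjective ψ := by
    rintro ⟨l, hl⟩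
    obtain ⟨c, rfl⟩ := QuotientGroup.mk'_surjective (Cfsg.oddCore C) l
    exact ⟨⟨c, hl⟩, rfl⟩
  refine ⟨e.toMonoidHom.comp ψ, e.surjective.comp hψ, ?_⟩
  have hk : (e.toMonoidHom.comp ψ).ker = (Cfsg.oddCore C).subgroupOf (cover C) := by
    ext c
    rw [MonoidHom.mem_ker, MonoidHom.comp_apply, MulEquiv.coe_toMonoidHom, MulEquiv.map_eq_one_iff,
      Subgroup.mem_subgroupOf, ← QuotientGroup.eq_one_iff, Subtype.ext_iff]
    rfl
  have hle : Cfsg.oddCore C ≤ cover C := fun o ho => by
    rw [mem_cover, show π₀ o = 1 from (QuotientGroup.eq_one_iff o).2 ho]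
    exact one_mem _
  have hcard : Nat.card (e.toMonoidHom.comp ψ).ker = Nat.card (Cfsg.oddCore C) := by
    rw [hk]
    exact Nat.card_congr (Subgroup.subgroupOfEquivOfLe hle).toEquiv
  exact ⟨hcard ▸ ZStar.Elements.oddCore_odd, hcard⟩

omit h in
theorem natAbs_signedP' : (signedP p).natAbs = p := natAbs_signedP p

theorem signedP_emod_four : signedP p % 4 = 3 := by
  rcases h.shape.odd_p with h4 | h4
  · rw [signedP_one h4]; omega
  · rw [signedP_three h4]; omega

theorem natAbs_signedP_add_one :
    (signedP p + 1).natAbs = if p % 4 = 3 then p + 1 else p - 1 := by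
  have := h.shape.p_three_le
  rcases h.shape.odd_p with h4 | h4
  · rw [signedP_one h4, if_neg (by omega)]; omega
  · rw [signedP_three h4, if_pos h4]; omega

theorem exact_two : ∃ B : ℕ, Odd B ∧ (signedP p + 1).natAbs = m * B := by
  rw [h.natAbs_signedP_add_one]
  rcases h.shape.odd_p with h4 | h4
  · rw [if_neg (by omega)]; exact h.shape.exact_two.2 h4
  · rw [if_pos h4]; exact h.shape.exact_two.1 h4

/-- For `p ≥ 5` the primes of `|SL(2,p)|` do not divide `|O(C)|`. -/
theorem not_dvd (hC : CycOdd C) (h5 : 5 ≤ p) {r : ℕ} (hr : r.Prime)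
    (hd : r ∣ p * ((p - 1) * (p + 1))) : ¬ r ∣ Nat.card (Cfsg.oddCore C) := by
  intro hdO
  obtain ⟨eL⟩ := h.iso
  set L := commutator (C ⧸ Cfsg.oddCore C) with hL
  have hperf : ⁅L, L⁆ = L := by
    have h1 : commutator L = ⊤ := by
      apply Subgroup.map_injective (f := eL.toMonoidHom) eL.injective
      rw [_root_.commutator_def, Subgroup.map_commutator, Subgroup.map_top_of_surjective _ eL.surjective,
        ← _root_.commutator_def]
      exact Linear.commutator_SL_eq_top le_rfl fun _ => by rw [Nat.card_zmod]; omega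
    rw [← Subgroup.map_subtype_commutator, h1, ← MonoidHom.range_eq_map, Subgroup.range_subtype]
  have hr2 : r ≠ 2 := fun e2 => (ZStar.Elements.oddCore_odd (G := C)).not_two_dvd_nat (e2 ▸ hdO)
  exact not_dvd_of_perfect hC (Cfsg.oddCore C) L hperf hr hr2
    (by rw [h.shape.card_L, mul_assoc]; exact hd) hdO

omit h in
/-- Elements of the cover of order prime to `|O(C)|` centralise it. -/
theorem comm_core (hC : CycOdd C) {v : C} (hv : v ∈ cover C)
    (hcop : (orderOf v).Coprime (Nat.card (Cfsg.oddCore C))) {o : C} (ho : o ∈ Cfsg.oddCore C) :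
    Commute v o := by
  refine comm_of_mem_commutator hC ZStar.Elements.oddCore_odd ?_ hcop ho
  have hmap : (commutator C).map π₀ = commutator (C ⧸ Cfsg.oddCore C) := by
    rw [_root_.commutator_def, _root_.commutator_def, Subgroup.map_commutator,
      Subgroup.map_top_of_surjective _ (QuotientGroup.mk'_surjective _)]
  have h1 : QuotientGroup.mk' (commutator C) v ∈
      (Cfsg.oddCore C).map (QuotientGroup.mk' (commutator C)) := by
    obtain ⟨w, hw, e⟩ := hmap.ge (mem_cover.1 hv)
    refine ⟨w⁻¹ * v, ?_, ?_⟩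
    · exact QuotientGroup.eq.1 e
    · rw [map_mul, map_inv, show QuotientGroup.mk' (commutator C) w = 1 from
        (QuotientGroup.eq_one_iff w).2 hw, inv_one, one_mul]
  have h2 : QuotientGroup.mk' (commutator C) v = 1 := orderOf_eq_one_iff.1
    (Nat.eq_one_of_dvd_coprimes hcop (orderOf_map_dvd _ v)
      ((Subgroup.orderOf_dvd_natCard _ h1).trans (Subgroup.card_map_dvd _ _)))
  exact (QuotientGroup.eq_one_iff v).1 h2

omit h in
/-- The 2-elements of the cover centralise `O(C)`. -/
theorem comm_core_two (hC : CycOdd C) {v : C} (hv : v ∈ cover C) {j : ℕ} (hj : v ^ 2 ^ j = 1) {o : C}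
    (ho : o ∈ Cfsg.oddCore C) : Commute v o :=
  comm_core hC hv (Nat.Coprime.coprime_dvd_left (orderOf_dvd_of_pow_eq_one hj)
    ((Nat.coprime_two_left.2 ZStar.Elements.oddCore_odd).pow_left j)) ho

end LocalHyp

/-- The hypotheses at `C = C(σ ^ m)` from Gorenstein–Walter. -/
theorem exists_localHyp (hGW : GWConsumers12.GWPerfect.{u}) {G : Type u} [Group G] [Finite G]
    {P : Sylow 2 G} {m : ℕ} {σ y : G} (hsd : SD P m σ y) (hidx : ∀ H : Subgroup G, H.index ≠ 2)
    (hcyc : ∀ r : ℕ, r.Prime → r ≠ 2 → ∀ R : Sylow r G, IsCyclic R)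
    (hPC : (P : Subgroup G) ≤ Subgroup.centralizer ({σ ^ m} : Set G)) :
    ∃ (p : ℕ) (_ : Fact p.Prime),
      CycOdd ↥(Subgroup.centralizer ({σ ^ m} : Set G)) ∧
      LocalHyp (P.subtype hPC) m ⟨σ, hPC hsd.ext.mem⟩ ⟨y, hPC hsd.y_mem⟩ p := by
  haveI : Fact (Nat.Prime 2) := ⟨Nat.prime_two⟩
  set C := Subgroup.centralizer ({σ ^ m} : Set G) with hC
  have hCcyc : CycOdd C := CycOdd.subgroup hcyc C
  obtain ⟨F, i1, i2, hodd, ⟨e⟩, -⟩ := GWConsumers31.commutator_centralizer_quotient hGW P
    (Or.inl hsd.isQuasiDihedral) hidx (σ ^ m) hsd.ext.orderOf_z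
  obtain ⟨p, hp, hp2, hiso⟩ := exists_prime_field (hCcyc.quotient _) hodd e
  haveI := hp
  exact ⟨p, hp, hCcyc, hsd.subgroupOf hPC, fun c => Subtype.ext (by
    show σ ^ m * (c : G) = c * σ ^ m
    exact (Subgroup.mem_centralizer_singleton_iff.1 c.2).symm), hp2, @fun _ => hiso⟩

end Cfsg.Agent.Lib.SDOrder
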