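import Cfsg.Agent.Lib.SDOrder.Facts1
import Cfsg.Agent.Lib.SL2Tori.Basic

/-!
# Facts on `C = C(σ ^ m)`, part 2: the centralisers of the rotations in the cover

For an even rotation `v` outside `⟨z⟩`, `|C(v)| = 2 |π + 1| k` and `|C(v) ∩ C(y)| = 2 c`.
-/

set_option autoImplicit false
set_option linter.style.haveILetI false
set_option linter.unusedSectionVars false

namespace Cfsg.Agent.Lib.SDOrder

open Cfsg.Agent.Lib.SemiQuatDefect.Group
open Matrix
open scoped MatrixGroups commutatorElement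

universe u

/-- A 2-element of order at least four has as centraliser the torus whose order is divisible by four. -/
theorem card_torus_of_two {p : ℕ} [hp : Fact p.Prime] (hp2 : p ≠ 2)
    {a : SpecialLinearGroup (Fin 2) (ZMod p)} {j : ℕ} (hj : a ^ 2 ^ j = 1) (h2 : a * a ≠ 1) :
    Nat.card (Subgroup.centralizer ({a} : Set (SpecialLinearGroup (Fin 2) (ZMod p)))) =
      if p % 4 = 3 then p + 1 else p - 1 := by
  have hodd : Odd (Fintype.card (ZMod p)) := by rw [ZMod.card]; exact hp.out.odd_of_ne_two hp2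
  have htwo := Linear.two_ne_zero_of_odd_card hodd
  have h4 : 4 ∣ orderOf a := by
    obtain ⟨i, -, hi⟩ := (Nat.dvd_prime_pow Nat.prime_two).1 (orderOf_dvd_of_pow_eq_one hj)
    rcases i with _ | _ | i
    · exact absurd (by rw [orderOf_eq_one_iff.1 hi, one_mul]) h2
    · exact absurd (by rw [← pow_two]; exact orderOf_dvd_iff_pow_eq_one.1 (by rw [hi, pow_one])) h2
    · rw [hi]
      exact ⟨2 ^ i, by ring⟩
  have hreg : SL2Tori.Regular a := by
    intro ht
    have h4ne : (4 : ZMod p) ≠ 0 := by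
      rw [show (4 : ZMod p) = 2 * 2 by norm_num]
      exact mul_ne_zero htwo htwo
    set μ : ZMod p := Matrix.trace (a : Matrix (Fin 2) (Fin 2) (ZMod p)) / 2 with hμ
    have htr : Matrix.trace (a : Matrix (Fin 2) (Fin 2) (ZMod p)) ^ 2 = 4 := by
      simpa [Cfsg.Agent.Lib.PSLTwo.Sylow.slTr, Matrix.trace_fin_two] using ht
    have hμ2 : μ ^ 2 = 1 := by
      rw [hμ, div_pow, htr, show (2 : ZMod p) ^ 2 = 4 by norm_num, div_self h4ne]
    have he : Linear.IsEigen a μ := by
      show _ = (0 : ZMod p)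
      rw [Algebra.algebraMap_self, RingHom.id_apply, hμ2,
        show Matrix.trace (a : Matrix (Fin 2) (Fin 2) (ZMod p)) = 2 * μ by rw [hμ]; field_simp]
      linear_combination (-2 : ZMod p) * hμ2
    have hd := h4.trans (orderOf_dvd_of_pow_eq_one (Linear.pow_two_mul_char_eq_one p he hμ2))
    have := (hp.out.odd_of_ne_two hp2).not_two_dvd_nat
    omega
  have hmem : orderOf a ∣ Nat.card (SL2Tori.torus a) :=
    Subgroup.orderOf_dvd_natCard _ (SL2Tori.self_mem_torus a)
  have hd := h4.trans hmem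
  have hp3 : 3 ≤ p := by have := hp.out.two_le; omega
  show Nat.card (SL2Tori.torus a) = _
  by_cases hsq : IsSquare (Cfsg.Agent.Lib.PSLTwo.Sylow.slTr a ^ 2 - 4)
  · rw [SL2Tori.card_torus_split hodd hreg hsq, ZMod.card] at hd ⊢
    rw [if_neg (by omega)]
  · rw [SL2Tori.card_torus_nonsplit hodd hsq, ZMod.card] at hd ⊢
    rw [if_pos (by omega)]

namespace Shape

variable {H : Type u} [Group H] [Finite H] {S : Sylow 2 H} {m : ℕ} {s w : H} {L : Subgroup H} {p : ℕ}
  [hp : Fact p.Prime] [L.Normal] (h : Shape S m s w L p)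

include h

/-- The centraliser of an even rotation outside the centre. -/
theorem card_centralizer_rot {v : H} (hv : v ∈ Subgroup.zpowers s) (hvL : v ∈ L) (h2 : v * v ≠ 1) :
    Nat.card (Subgroup.centralizer ({v} : Set H)) = 2 * (if p % 4 = 3 then p + 1 else p - 1) := by
  obtain ⟨e⟩ := h.iso
  set K := Subgroup.centralizer ({v} : Set H) with hK
  have hsK : s ∈ K := by
    rw [hK, Subgroup.mem_centralizer_singleton_iff]
    obtain ⟨i, rfl⟩ := Subgroup.mem_zpowers_iff.1 hv
    exact ((Commute.refl s).zpow_right i).eq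
  have hrel : (L.subgroupOf K).index = 2 := by
    refine ((Nat.dvd_prime Nat.prime_two).1
      (h.index_two ▸ Subgroup.relIndex_dvd_index_of_normal L K)).resolve_left fun e1 => ?_
    exact h.s_notMem_L (Subgroup.relIndex_eq_one.1 e1 hsK)
  have hcl : Nat.card (L.subgroupOf K) = if p % 4 = 3 then p + 1 else p - 1 := by
    obtain ⟨j, hj⟩ := h.isPGroup_of_mem (h.sd.ext.zpowers_le hv) ⟨v, Subgroup.mem_zpowers v⟩
    rw [← card_torus_of_two h.odd (a := e ⟨v, hvL⟩) (j := j) (by
        rw [← map_pow, show (⟨v, hvL⟩ : L) ^ 2 ^ j = 1 from Subtype.ext (congrArg Subtype.val hj :), map_one])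
      (by
        rw [← map_mul, ← map_one e]
        exact fun e' => h2 (congrArg Subtype.val (e.injective e') :))]
    refine Nat.card_congr ⟨fun c => ⟨e ⟨c.1.1, c.2⟩, ?_⟩,
      fun a => ⟨⟨(e.symm a.1).1, ?_⟩, (e.symm a.1).2⟩, fun c => ?_, fun a => ?_⟩
    · rw [Subgroup.mem_centralizer_singleton_iff, ← map_mul, ← map_mul]
      exact congrArg e (Subtype.ext (Subgroup.mem_centralizer_singleton_iff.1 c.1.2))
    · rw [hK, Subgroup.mem_centralizer_singleton_iff]
      have h1 := congrArg e.symm (Subgroup.mem_centralizer_singleton_iff.1 a.2)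
      rw [map_mul, map_mul, e.symm_apply_apply] at h1
      exact congrArg Subtype.val h1
    · exact Subtype.ext (Subtype.ext (congrArg Subtype.val (e.symm_apply_apply ⟨c.1.1, c.2⟩) :))
    · exact Subtype.ext (e.apply_symm_apply a.1)
  rw [← (L.subgroupOf K).card_mul_index, hrel, hcl]
  ring

/-- A rotation of order at least four and `w` have only the centre as common centraliser. -/
theorem mem_inf_centralizer {v : H} (hv : v ∈ Subgroup.zpowers s) (hvL : v ∈ L) (h2 : v * v ≠ 1)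
    (hwv : w * v * w⁻¹ = v⁻¹) {d : H}
    (hd : d ∈ Subgroup.centralizer ({v} : Set H) ⊓ Subgroup.centralizer ({w} : Set H)) :
    d = 1 ∨ d = s ^ m := by
  haveI : Fact (Nat.Prime 2) := ⟨Nat.prime_two⟩
  set D := Subgroup.centralizer ({v} : Set H) ⊓ Subgroup.centralizer ({w} : Set H) with hD
  have h3 := h.p_three_le
  have hD2 : IsPGroup 2 D := by
    have hd1 : Nat.card D ∣ Nat.card (Subgroup.centralizer ({v} : Set H)) :=
      Subgroup.card_dvd_of_le inf_le_left
    have hd2 : Nat.card D ∣ Nat.card (Subgroup.centralizer ({w} : Set H)) :=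
      Subgroup.card_dvd_of_le inf_le_right
    rw [h.card_centralizer_rot hv hvL h2] at hd1
    have h4 : Nat.card D ∣ 2 ^ 2 := by
      rcases h.odd_p with h4 | h4
      · rw [h.card_centralizer_w_one h4] at hd2
        rw [if_neg (by omega)] at hd1
        have := Nat.dvd_sub hd2 hd1
        rwa [show 2 * (p + 1) - 2 * (p - 1) = 2 ^ 2 by omega] at this
      · rw [h.card_centralizer_w_three h4] at hd2
        rw [if_pos h4] at hd1
        have := Nat.dvd_sub hd1 hd2
        rwa [show 2 * (p + 1) - 2 * (p - 1) = 2 ^ 2 by omega] at this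
    obtain ⟨k, -, hk⟩ := (Nat.dvd_prime_pow Nat.prime_two).1 h4
    exact IsPGroup.of_card hk
  set R := Subgroup.zpowers v ⊔ Subgroup.zpowers w with hR
  have hR2 : IsPGroup 2 R := S.2.to_le (sup_le (Subgroup.zpowers_le.2 (h.sd.ext.zpowers_le hv))
    (Subgroup.zpowers_le.2 h.sd.y_mem))
  have hRD : R ≤ Subgroup.normalizer (D : Set H) := by
    refine le_trans (sup_le ?_ ?_) (Subgroup.centralizer_le_normalizer (s := (D : Set H))) <;>
      refine Subgroup.zpowers_le.2 (Subgroup.mem_centralizer_iff.2 fun x hx => ?_)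
    · exact Subgroup.mem_centralizer_singleton_iff.1 hx.1
    · exact Subgroup.mem_centralizer_singleton_iff.1 hx.2
  obtain ⟨Q, hQ⟩ := (hD2.to_sup_of_normal_left' hR2 hRD).exists_le_sylow
  obtain ⟨g, hg⟩ := MulAction.exists_smul_eq H Q S
  have hmem : ∀ x ∈ D ⊔ R, g * x * g⁻¹ ∈ (S : Subgroup H) := fun x hx => by
    rw [← hg]
    exact ⟨x, hQ hx, rfl⟩
  set d' := g * d * g⁻¹ with hd'
  set v' := g * v * g⁻¹ with hv'
  set w' := g * w * g⁻¹ with hw'
  have hd'S : d' ∈ (S : Subgroup H) := hmem d (Subgroup.mem_sup_left hd)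
  have hv'S : v' ∈ (S : Subgroup H) :=
    hmem v (Subgroup.mem_sup_right (Subgroup.mem_sup_left (Subgroup.mem_zpowers v)))
  have hw'S : w' ∈ (S : Subgroup H) :=
    hmem w (Subgroup.mem_sup_right (Subgroup.mem_sup_right (Subgroup.mem_zpowers w)))
  have hdv : Commute d' v' :=
    (show Commute d v from Subgroup.mem_centralizer_singleton_iff.1 hd.1).map (MulAut.conj g)
  have hdw : Commute d' w' :=
    (show Commute d w from Subgroup.mem_centralizer_singleton_iff.1 hd.2).map (MulAut.conj g)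
  have hne : ¬ Commute w' v' := by
    intro hc
    have hc' : Commute w v := by
      have := hc.map (MulAut.conj g⁻¹)
      simpa [hv', hw', mul_assoc] using this
    apply h2
    rw [hc'.eq, mul_inv_cancel_right] at hwv
    nth_rewrite 2 [hwv]
    exact mul_inv_cancel v
  have hback : d' = 1 ∨ d' = s ^ m → d = 1 ∨ d = s ^ m := by
    rintro (e | e)
    · exact Or.inl (conj_eq_one_iff.1 e)
    · right
      rw [show d = g⁻¹ * d' * g by rw [hd']; group, e, mul_assoc, (h.central g).eq, inv_mul_cancel_left]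
  apply hback
  by_cases hds : d' ∈ Subgroup.zpowers s
  · obtain ⟨r, hrS, hrs, hdr⟩ : ∃ r ∈ (S : Subgroup H), r ∉ Subgroup.zpowers s ∧ Commute d' r := by
      by_cases hvs : v' ∈ Subgroup.zpowers s
      · by_cases hws : w' ∈ Subgroup.zpowers s
        · exfalso
          obtain ⟨i, hi⟩ := Subgroup.mem_zpowers_iff.1 hvs
          obtain ⟨k, hk⟩ := Subgroup.mem_zpowers_iff.1 hws
          exact hne (hi ▸ hk ▸ (Commute.refl s).zpow_zpow k i)
        · exact ⟨w', hw'S, hws, hdw⟩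
      · exact ⟨v', hv'S, hvs, hdv⟩
    rcases h.sd.ext.eq_of_comm hrS hrs hd'S hdr.eq.symm with e | e | e | e
    · exact Or.inl e
    · exact Or.inr e
    · exact absurd (inv_mem_iff.1 (e ▸ hds)) hrs
    · refine absurd ?_ hrs
      rw [← inv_mem_iff, show r⁻¹ = d' * (s ^ m)⁻¹ by rw [e]; group]
      exact mul_mem hds (inv_mem (Subgroup.npow_mem_zpowers s m))
  · exfalso
    apply hne
    have hcomm : ∀ x ∈ (S : Subgroup H), Commute d' x → ∀ a, Commute a (s ^ m) → Commute a d'⁻¹ →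
        Commute a x := by
      intro x hx hdx a ha ha'
      rcases h.sd.ext.eq_of_comm hd'S hds hx hdx.eq with e | e | e | e <;> rw [e]
      · exact Commute.one_right _
      · exact ha
      · exact ha'
      · exact ha'.mul_right ha
    exact hcomm v' hv'S hdv w' (h.central w').symm (hdw.symm.inv_right)

end Shape

namespace LocalHyp

variable {C : Type u} [Group C] [Finite C] {P : Sylow 2 C} {m : ℕ} {σ y : C} {p : ℕ} [hp : Fact p.Prime]
  [(Cfsg.oddCore C).Normal] (h : LocalHyp P m σ y p)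

include h

local notation "π₀" => QuotientGroup.mk' (Cfsg.oddCore C)

theorem pow_even_mem_cover {i : ℕ} (hi : Even i) : σ ^ i ∈ cover C := by
  obtain ⟨j, rfl⟩ := hi
  rw [← two_mul, mul_comm, pow_mul]
  exact Subgroup.sq_mem_of_index_two h.cover_index_two _

theorem sq_ne_one {i : ℕ} (h1 : σ ^ i ≠ 1) (hz : σ ^ i ≠ σ ^ m) : σ ^ i * σ ^ i ≠ 1 := by
  intro e
  rw [← pow_add, ← two_mul, ← orderOf_dvd_iff_pow_eq_one, h.sd.ext.order] at e
  rcases h.sd.ext.pow_mem_zm (Nat.dvd_of_mul_dvd_mul_left two_pos e) with e' | e'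
  exacts [h1 e', hz e']

theorem map_rot {i : ℕ} (hi : Even i) (h1 : σ ^ i ≠ 1) (hz : σ ^ i ≠ σ ^ m) :
    π₀ (σ ^ i) ∈ Subgroup.zpowers (π₀ σ) ∧ π₀ (σ ^ i) ∈ commutator (C ⧸ Cfsg.oddCore C) ∧
      π₀ (σ ^ i) * π₀ (σ ^ i) ≠ 1 ∧ π₀ y * π₀ (σ ^ i) * (π₀ y)⁻¹ = (π₀ (σ ^ i))⁻¹ := by
  refine ⟨by rw [map_pow]; exact Subgroup.npow_mem_zpowers _ _, mem_cover.1 (h.pow_even_mem_cover hi),
    fun e => h.sq_ne_one h1 hz ?_, ?_⟩
  · rw [← map_mul] at e
    exact h.injOn (mul_mem (pow_mem h.sd.ext.mem i) (pow_mem h.sd.ext.mem i)) (one_mem _)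
      (e.trans (map_one _).symm)
  · rw [← map_inv, ← map_inv, ← map_mul, ← map_mul]
    refine congrArg _ (eq_inv_of_mul_eq_one_left ?_)
    have hyy : y⁻¹ = y := inv_eq_of_mul_eq_one_right h.sd.y_sq
    have hc : y * σ * y⁻¹ = σ ^ (m - 1) := by
      have := h.sd.ext.conj y h.sd.y_mem h.sd.y_notMem
      rwa [hyy] at this ⊢
    rw [← conj_pow, hc, ← pow_mul, ← pow_add, ← orderOf_dvd_iff_pow_eq_one, h.sd.ext.order]
    obtain ⟨j, rfl⟩ := hi
    refine ⟨j, ?_⟩
    have : 1 ≤ m := h.sd.ext.pos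
    rw [← Nat.add_one_mul, Nat.sub_add_cancel this]
    ring

/-- `|C(σ ^ i)| = 2 |π + 1| k` for the even rotations outside the centre. -/
theorem card_centralizer_rot (hC : CycOdd C) {i : ℕ} (hi : Even i) (h1 : σ ^ i ≠ 1)
    (hz : σ ^ i ≠ σ ^ m) : Nat.card (Subgroup.centralizer ({σ ^ i} : Set C)) =
      2 * (signedP p + 1).natAbs * Nat.card (Cfsg.oddCore C) := by
  obtain ⟨hvs, hvL, hv2, -⟩ := h.map_rot hi h1 hz
  set K := Subgroup.centralizer ({σ ^ i} : Set C) with hK
  obtain ⟨j, hj⟩ := P.2 ⟨σ ^ i, pow_mem h.sd.ext.mem i⟩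
  have hj' : (σ ^ i) ^ 2 ^ j = 1 := congrArg Subtype.val hj
  have hcomm : ∀ o ∈ Cfsg.oddCore C, Commute (σ ^ i) o := fun o ho =>
    comm_core_two hC (h.pow_even_mem_cover hi) hj' ho
  have hker : K ⊓ (π₀).ker = Cfsg.oddCore C := by
    rw [QuotientGroup.ker_mk']
    exact inf_eq_right.2 fun o ho => Subgroup.mem_centralizer_singleton_iff.2 (hcomm o ho).eq.symm
  have hmap : K.map π₀ = Subgroup.centralizer ({π₀ (σ ^ i)} : Set (C ⧸ Cfsg.oddCore C)) := by
    refine le_antisymm ?_ fun g hg => ?_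
    · rintro _ ⟨c, hc, rfl⟩
      rw [Subgroup.mem_centralizer_singleton_iff, ← map_mul, ← map_mul,
        Subgroup.mem_centralizer_singleton_iff.1 hc]
    · obtain ⟨c, rfl⟩ := QuotientGroup.mk'_surjective (Cfsg.oddCore C) g
      refine ⟨c, ?_, rfl⟩
      rw [SetLike.mem_coe, hK, Subgroup.mem_centralizer_singleton_iff]
      set o := (σ ^ i)⁻¹ * (c * σ ^ i * c⁻¹) with ho
      have hoO : o ∈ Cfsg.oddCore C := by
        rw [← QuotientGroup.eq_one_iff]
        show π₀ o = 1
        rw [ho, map_mul, map_inv, map_mul, map_mul, map_inv,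
          Subgroup.mem_centralizer_singleton_iff.1 hg, mul_inv_cancel_right, inv_mul_cancel]
      have h3 : (σ ^ i * o) ^ 2 ^ j = 1 := by
        rw [show σ ^ i * o = c * σ ^ i * c⁻¹ by rw [ho, mul_inv_cancel_left], conj_pow, hj', mul_one,
          mul_inv_cancel]
      rw [(hcomm o hoO).mul_pow, hj', one_mul] at h3
      have h4 : o = 1 := orderOf_eq_one_iff.1 (Nat.eq_one_of_dvd_coprimes
        ((Nat.coprime_two_left.2 (ZStar.Elements.oddCore_odd (G := C))).pow_left j)
        (orderOf_dvd_of_pow_eq_one h3) (Subgroup.orderOf_dvd_natCard _ hoO))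
      rw [ho, inv_mul_eq_one] at h4
      exact (mul_inv_eq_iff_eq_mul.1 h4.symm)
  rw [← card_map_inf_ker π₀ K, hker, hmap, h.shape.card_centralizer_rot hvs hvL hv2,
    h.natAbs_signedP_add_one]

/-- `|C(σ ^ i) ∩ C(y)| = 2 c`. -/
theorem card_inf_centralizer_rot (hC : CycOdd C) {i : ℕ} (hi : Even i) (h1 : σ ^ i ≠ 1)
    (hz : σ ^ i ≠ σ ^ m) :
    Nat.card ↥(Subgroup.centralizer ({σ ^ i} : Set C) ⊓ Subgroup.centralizer ({y} : Set C)) =
      2 * Nat.card {o : C // o ∈ Cfsg.oddCore C ∧ o * y = y * o} := by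
  obtain ⟨hvs, hvL, hv2, hwv⟩ := h.map_rot hi h1 hz
  obtain ⟨j, hj⟩ := P.2 ⟨σ ^ i, pow_mem h.sd.ext.mem i⟩
  have hj' : (σ ^ i) ^ 2 ^ j = 1 := congrArg Subtype.val hj
  set K := Subgroup.centralizer ({σ ^ i} : Set C) ⊓ Subgroup.centralizer ({y} : Set C) with hK
  have hker : Nat.card ↥(K ⊓ (π₀).ker) = Nat.card {o : C // o ∈ Cfsg.oddCore C ∧ o * y = y * o} := by
    rw [QuotientGroup.ker_mk']
    exact Nat.card_congr (Equiv.subtypeEquivRight fun o => by
      simp only [hK, Subgroup.mem_inf, Subgroup.mem_centralizer_singleton_iff]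
      exact ⟨fun ⟨⟨_, a⟩, b⟩ => ⟨b, a⟩, fun ⟨b, a⟩ =>
        ⟨⟨(comm_core_two hC (h.pow_even_mem_cover hi) hj' b).eq.symm, a⟩, b⟩⟩)
  have hzK : σ ^ m ∈ K := Subgroup.mem_inf.2
    ⟨Subgroup.mem_centralizer_singleton_iff.2 (h.central _).eq,
      Subgroup.mem_centralizer_singleton_iff.2 (h.central _).eq⟩
  have hmap : K.map π₀ = Subgroup.zpowers (π₀ (σ ^ m)) := by
    refine le_antisymm ?_ (Subgroup.zpowers_le.2 (Subgroup.mem_map_of_mem _ hzK))
    rintro _ ⟨c, ⟨hc, hc'⟩, rfl⟩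
    have hd : π₀ c ∈ Subgroup.centralizer ({π₀ (σ ^ i)} : Set (C ⧸ Cfsg.oddCore C)) ⊓
        Subgroup.centralizer ({π₀ y} : Set (C ⧸ Cfsg.oddCore C)) := by
      refine Subgroup.mem_inf.2 ⟨?_, ?_⟩
      · rw [Subgroup.mem_centralizer_singleton_iff, ← map_mul, ← map_mul,
          Subgroup.mem_centralizer_singleton_iff.1 hc]
      · rw [Subgroup.mem_centralizer_singleton_iff, ← map_mul, ← map_mul,
          Subgroup.mem_centralizer_singleton_iff.1 hc']
    rcases h.shape.mem_inf_centralizer hvs hvL hv2 hwv hd with e | e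
    · rw [e]; exact one_mem _
    · rw [e, map_pow]; exact Subgroup.mem_zpowers _
  rw [← card_map_inf_ker π₀ K, hker, hmap, map_pow, h.shape.card_zpowers_z]

end LocalHyp

end Cfsg.Agent.Lib.SDOrder
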