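import Cfsg.Agent.Lib.SDOrder.Facts1

/-!
# Facts on `C = C(σ ^ m)`, part 3: the small primes

`p = 3`: no element of order `3` commutes with an involution other than `z`.  `p = 5`: `15` is prime to
`|O(C)|`, an element of order `5` commutes with no involution other than `z`, and the cover has six
Sylow `5`-subgroups.
-/

set_option autoImplicit false
set_option linter.style.haveILetI false
set_option linter.unusedSectionVars false

namespace Cfsg.Agent.Lib.SDOrder

open Cfsg.Agent.Lib.SemiQuatDefect.Group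
open Matrix
open scoped MatrixGroups commutatorElement Pointwise

universe u

namespace LocalHyp

variable {C : Type u} [Group C] [Finite C] {P : Sylow 2 C} {m : ℕ} {σ y : C} {p : ℕ} [hp : Fact p.Prime]
  [(Cfsg.oddCore C).Normal] (h : LocalHyp P m σ y p)

include h

local notation "π₀" => QuotientGroup.mk' (Cfsg.oddCore C)

/-- The image of an involution other than `z` is conjugate to that of `y`. -/
theorem exists_conj_image {t : C} (ht : orderOf t = 2) (htz : t ≠ σ ^ m) :
    ∃ c : C ⧸ Cfsg.oddCore C, c * π₀ y * c⁻¹ = π₀ t := by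
  have hz2 : orderOf (σ ^ m) = 2 := h.sd.ext.orderOf_z
  have ht2 : orderOf (π₀ t) = 2 := by
    refine orderOf_eq_prime (by rw [← map_pow, ← ht, pow_orderOf_eq_one, map_one]) fun e => ?_
    have h1 := Subgroup.orderOf_dvd_natCard _ ((QuotientGroup.eq_one_iff t).1 e)
    rw [ht] at h1
    exact (ZStar.Elements.oddCore_odd (G := C)).not_two_dvd_nat h1
  have htz' : π₀ t ≠ π₀ σ ^ m := by
    rw [← map_pow]
    intro e
    refine htz (inv_mul_eq_one.1 ?_).symm
    have h1 : (σ ^ m)⁻¹ * t ∈ Cfsg.oddCore C := by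
      rw [← QuotientGroup.eq_one_iff]
      show π₀ ((σ ^ m)⁻¹ * t) = 1
      rw [map_mul, map_inv, e, inv_mul_cancel]
    refine orderOf_eq_one_iff.1 (Nat.eq_one_of_dvd_coprimes (Nat.coprime_two_left.2
      (Odd.of_dvd_nat ZStar.Elements.oddCore_odd (Subgroup.orderOf_dvd_natCard _ h1)))
      (orderOf_dvd_of_pow_eq_one ?_) dvd_rfl)
    rw [((h.central t).inv_left).mul_pow, inv_pow, ← hz2, pow_orderOf_eq_one, hz2, ← ht,
      pow_orderOf_eq_one, inv_one, one_mul]
  exact h.shape.exists_conj_w ht2 htz'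

/-- An element of prime order outside `O(C)` whose order does not divide `|C(w)|` commutes with no
involution other than `z`. -/
theorem eq_z_of_outside {r : ℕ} (hr : r.Prime) (hrd : ¬ r ∣ 2 * (signedP p - 1).natAbs) {g : C}
    (hg : orderOf g = r) (hgO : g ∉ Cfsg.oddCore C) {t : C} (ht : orderOf t = 2) (htg : Commute t g) :
    t = σ ^ m := by
  by_contra htz
  obtain ⟨c, hc⟩ := h.exists_conj_image ht htz
  have hg1 : π₀ g ≠ 1 := fun e => hgO ((QuotientGroup.eq_one_iff g).1 e)
  have hgo : orderOf (c⁻¹ * π₀ g * c) = r := by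
    rw [show c⁻¹ * π₀ g * c = c⁻¹ * π₀ g * c⁻¹⁻¹ by group, orderOf_conj_eq]
    exact ((Nat.dvd_prime hr).1 (hg ▸ orderOf_map_dvd _ g)).resolve_left fun e =>
      hg1 (orderOf_eq_one_iff.1 e)
  refine hrd ?_
  rw [← h.card_centralizer_w, ← hgo]
  refine Subgroup.orderOf_dvd_natCard _ ?_
  rw [Subgroup.mem_centralizer_singleton_iff]
  have hcomm : π₀ t * π₀ g = π₀ g * π₀ t := by rw [← map_mul, ← map_mul, htg.eq]
  rw [← hc] at hcomm
  calc c⁻¹ * π₀ g * c * π₀ y = c⁻¹ * (π₀ g * (c * π₀ y * c⁻¹)) * c := by group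
    _ = c⁻¹ * (c * π₀ y * c⁻¹ * π₀ g) * c := by rw [hcomm]
    _ = π₀ y * (c⁻¹ * π₀ g * c) := by group

/-- `p = 3`: an element of order three of `O(C)` is inverted by whatever centralises an outer involution. -/
theorem eq_z_of_mem_core_three (hC : CycOdd C) (h3 : p = 3) {g : C} (hg : orderOf g = 3)
    (hgO : g ∈ Cfsg.oddCore C) {t : C} (ht : orderOf t = 2) (htg : Commute t g) : t = σ ^ m := by
  subst h3
  by_contra htz
  haveI : Fact (Nat.Prime 3) := ⟨Nat.prime_three⟩
  set O := Cfsg.oddCore C with hO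
  set L := commutator (C ⧸ O) with hL
  have hg1 : g ≠ 1 := fun e => by rw [e, orderOf_one] at hg; omega
  set T := Subgroup.zpowers g with hT
  have hTO : T ≤ O := Subgroup.zpowers_le.2 hgO
  set K := Subgroup.centralizer (T : Set C) with hK
  -- the centraliser covers `C / O(C)`
  have hKπ : K.map π₀ = ⊤ := by
    obtain ⟨R, hR⟩ := (show IsPGroup 3 (T.subgroupOf O) from IsPGroup.of_card (n := 1) (by
      rw [Nat.card_congr (Subgroup.subgroupOfEquivOfLe hTO).toEquiv, Nat.card_zpowers, hg,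
        pow_one])).exists_le_sylow
    set R' := (R : Subgroup O).map O.subtype with hR'
    haveI : IsCyclic R' := hC.isCyclic_of_pgroup Nat.prime_three (by decide) (R.2.map _)
    have hTR : T ≤ R' := fun v hv => ⟨⟨v, hTO hv⟩, hR hv, rfl⟩
    have hF : Subgroup.normalizer (R' : Set C) ⊔ O = ⊤ := Sylow.normalizer_sup_eq_top R
    set N := Subgroup.normalizer (T : Set C) with hN
    have hRN : Subgroup.normalizer (R' : Set C) ≤ N := by
      intro c hc
      rw [hN, Subgroup.mem_normalizer_iff_map_conj_eq]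
      have hle : T.map (MulAut.conj c).toMonoidHom ≤ R' := by
        rw [Subgroup.mem_normalizer_iff_map_conj_eq] at hc
        exact (Subgroup.map_mono hTR).trans_eq hc
      obtain ⟨⟨r, hr⟩, hgen⟩ := IsCyclic.exists_generator (α := R')
      have hmemR : ∀ v ∈ R', v ∈ Subgroup.zpowers r := fun v hv => by
        obtain ⟨i, hi⟩ := Subgroup.mem_zpowers_iff.1 (hgen ⟨v, hv⟩)
        exact ⟨i, congrArg Subtype.val hi⟩
      rw [hT, MonoidHom.map_zpowers]
      exact zpowers_eq_of_orderOf (hmemR _ (hle (Subgroup.mem_map_of_mem _ (Subgroup.mem_zpowers g))))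
        (hmemR _ (hTR (Subgroup.mem_zpowers g))) (MulEquiv.orderOf_eq (MulAut.conj c) g)
    have hNπ : N.map π₀ = ⊤ := by
      rw [eq_top_iff]
      intro l _
      obtain ⟨c, rfl⟩ := QuotientGroup.mk'_surjective O l
      obtain ⟨n₀, hn₀, n, hn, rfl⟩ := Subgroup.mem_sup_of_normal_right.1 (hF.ge (Subgroup.mem_top c))
      exact ⟨n₀, hRN hn₀, by
        rw [map_mul, show π₀ n = 1 from (QuotientGroup.eq_one_iff n).2 hn, mul_one]⟩
    have hcK : ⁅N, N⁆ ≤ K := by
      rw [Subgroup.commutator_le]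
      intro a ha b hb
      obtain ⟨e⟩ : Nonempty (MulAut T ≃* (ZMod (Nat.card T))ˣ) := ⟨IsCyclic.mulAutMulEquiv T⟩
      let φ : ↥N →* MulAut T := Subgroup.normalizerMonoidHom T
      have hc : φ ⁅(⟨a, ha⟩ : ↥N), ⟨b, hb⟩⁆ = 1 := by
        refine e.injective ?_
        rw [map_commutatorElement, map_commutatorElement, map_one]
        exact commutatorElement_eq_one_iff_mul_comm.2 (mul_comm _ _)
      refine Subgroup.mem_centralizer_iff.2 fun z hz => ?_
      have h1 : ⁅a, b⁆ * z * ⁅a, b⁆⁻¹ = z :=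
        congrArg Subtype.val (DFunLike.congr_fun hc (⟨z, hz⟩ : T))
      exact (mul_inv_eq_iff_eq_mul.1 h1).symm
    have hLK : L ≤ K.map π₀ := by
      rw [hL, _root_.commutator_def, ← hNπ, ← Subgroup.map_commutator]
      exact Subgroup.map_mono hcK
    have htK : π₀ t ∈ K.map π₀ := Subgroup.mem_map_of_mem _ (Subgroup.mem_centralizer_iff.2 fun z hz => by
      obtain ⟨i, rfl⟩ := Subgroup.mem_zpowers_iff.1 hz
      exact ((htg.zpow_right i).eq).symm)
    have htL : π₀ t ∉ L := by
      obtain ⟨c, hc⟩ := h.exists_conj_image ht htz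
      intro hm
      rw [← hc] at hm
      refine h.shape.w_notMem_L ?_
      simpa [mul_assoc] using (show L.Normal from inferInstance).conj_mem _ hm c⁻¹
    rw [eq_top_iff]
    intro l _
    by_cases hl : l ∈ L
    · exact hLK hl
    · have h1 : l * π₀ t ∈ L :=
        (Subgroup.mul_mem_iff_of_index_two h.shape.index_two).2 (iff_of_false hl htL)
      simpa using mul_mem (hLK h1) (inv_mem htK)
  -- a Sylow 3-subgroup around `g`
  obtain ⟨Q, hQ⟩ := (show IsPGroup 3 T from IsPGroup.of_card (n := 1) (by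
    rw [Nat.card_zpowers, hg, pow_one])).exists_le_sylow
  haveI : IsCyclic (Q : Subgroup C) := hC 3 Nat.prime_three (by decide) Q
  obtain ⟨⟨q, hqQ⟩, hq⟩ := IsCyclic.exists_generator (α := (Q : Subgroup C))
  have hgen : ∀ v ∈ (Q : Subgroup C), ∃ i : ℤ, q ^ i = v := fun v hv => by
    obtain ⟨i, hi⟩ := Subgroup.mem_zpowers_iff.1 (hq ⟨v, hv⟩)
    exact ⟨i, congrArg Subtype.val hi⟩
  have hQK : (Q : Subgroup C) ≤ K := fun v hv => Subgroup.mem_centralizer_iff.2 fun z hz => by
    obtain ⟨i, rfl⟩ := hgen v hv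
    obtain ⟨j, hj⟩ := hgen z (hQ hz)
    rw [← hj]
    exact ((Commute.refl q).zpow_zpow j i).eq
  obtain ⟨e, he⟩ := Q.2 ⟨q, hqQ⟩
  have he' : q ^ 3 ^ e = 1 := congrArg Subtype.val he
  have hq1 : π₀ q ≠ 1 := by
    intro hq1
    have hle : (Q : Subgroup C) ≤ O := fun v hv => by
      obtain ⟨i, rfl⟩ := hgen v hv
      exact zpow_mem ((QuotientGroup.eq_one_iff q).1 hq1) i
    refine Q.not_dvd_index (dvd_trans ?_ (Subgroup.index_dvd_of_le hle))
    rw [Subgroup.index_eq_card, h.shape.card_H]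
    norm_num
  have hq3 : orderOf (π₀ q) = 3 := by
    have h1 : orderOf (π₀ q) ∣ 3 ^ e := orderOf_dvd_of_pow_eq_one (by rw [← map_pow, he', map_one])
    obtain ⟨i, -, hi⟩ := (Nat.dvd_prime_pow Nat.prime_three).1 h1
    have h2 : orderOf (π₀ q) ∣ 48 := by
      have := orderOf_dvd_natCard (π₀ q)
      rwa [h.shape.card_H] at this
    rw [hi] at h2
    rcases i with _ | _ | i
    · exact absurd (orderOf_eq_one_iff.1 hi) hq1
    · simpa using hi
    · exfalso
      have h9 : 9 ∣ 48 := dvd_trans ⟨3 ^ i, by ring⟩ h2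
      norm_num at h9
  have hqL : π₀ q ∈ L := by
    have h2 : π₀ q = (π₀ q * π₀ q) ^ 2 := by
      rw [← pow_two, ← pow_mul, show 2 * 2 = orderOf (π₀ q) + 1 by omega, pow_succ, pow_orderOf_eq_one,
        one_mul]
    rw [h2]
    exact pow_mem ((Subgroup.mul_mem_iff_of_index_two h.shape.index_two).2 Iff.rfl) _
  obtain ⟨g₀, hg₀⟩ := h.shape.exists_conj_pow
    (⟨Subgroup.zpowers (π₀ q), Subgroup.zpowers_le.2 hqL, by rw [Nat.card_zpowers, hq3]⟩ : Pt L 3)
    (Subgroup.mem_zpowers _) (show ¬ 3 ∣ 2 by decide)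
  obtain ⟨c, hcK, hc⟩ := hKπ.ge (Subgroup.mem_top g₀)
  subst hc
  -- make the inverting element normalise `Q`
  set M := K ⊓ (Subgroup.zpowers (π₀ q)).comap π₀ with hM
  have hQM : (Q : Subgroup C) ≤ M := fun v hv => Subgroup.mem_inf.2 ⟨hQK hv, by
    obtain ⟨i, rfl⟩ := hgen v hv
    rw [Subgroup.mem_comap, map_zpow]
    exact Subgroup.zpow_mem_zpowers _ i⟩
  have hQM' : ((c • Q : Sylow 3 C) : Subgroup C) ≤ M := by
    rintro _ ⟨v, hv, rfl⟩
    obtain ⟨i, rfl⟩ := hgen v hv
    refine Subgroup.mem_inf.2 ⟨mul_mem (mul_mem hcK (hQK hv)) (inv_mem hcK), ?_⟩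
    rw [Subgroup.mem_comap]
    change π₀ (c * q ^ i * c⁻¹) ∈ Subgroup.zpowers (π₀ q)
    rw [map_mul, map_mul, map_inv, map_zpow, ← conj_zpow, hg₀]
    exact zpow_mem (Subgroup.npow_mem_zpowers _ 2) i
  obtain ⟨o, ho⟩ := MulAction.exists_smul_eq M ((c • Q).subtype hQM') (Q.subtype hQM)
  rw [Sylow.smul_subtype] at ho
  have hoQ : (o : C) • (c • Q : Sylow 3 C) = Q := Sylow.subtype_injective ho
  set c' := (o : C) * c with hc'
  have hmem : c' * q * c'⁻¹ ∈ (Q : Subgroup C) := by
    have h1 : c' • Q = Q := by rw [hc', mul_smul, hoQ]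
    rw [← h1]
    exact ⟨q, hqQ, rfl⟩
  obtain ⟨a, ha⟩ := hgen _ hmem
  have hπ : π₀ q ^ a = π₀ q ^ 2 := by
    obtain ⟨i, hi⟩ := Subgroup.mem_zpowers_iff.1 (Subgroup.mem_comap.1 o.2.2)
    rw [← map_zpow, ha, hc', map_mul, map_mul, map_inv, map_mul, _root_.mul_inv_rev,
      show π₀ (o : C) * π₀ c * π₀ q * ((π₀ c)⁻¹ * (π₀ (o : C))⁻¹) =
        π₀ (o : C) * (π₀ c * π₀ q * (π₀ c)⁻¹) * (π₀ (o : C))⁻¹ by group, hg₀, ← hi,
      ((Commute.refl (π₀ q)).zpow_left i |>.pow_right 2).eq, mul_inv_cancel_right]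
  rw [← zpow_natCast, ← orderOf_dvd_sub_iff_zpow_eq_zpow, hq3] at hπ
  obtain ⟨j, hj⟩ := hgen g (hQ (Subgroup.mem_zpowers g))
  have hfix : c' * g * c'⁻¹ = g := by
    have h1 : c' ∈ K := mul_mem (Subgroup.mem_inf.1 o.2).1 hcK
    rw [← Subgroup.mem_centralizer_iff.1 h1 g (Subgroup.mem_zpowers g), mul_inv_cancel_right]
  have h2 : q ^ (a * j) = q ^ j := by
    rw [_root_.zpow_mul, ha, conj_zpow, hj, hfix]
  rw [← orderOf_dvd_sub_iff_zpow_eq_zpow] at h2
  obtain ⟨i, -, hi⟩ := (Nat.dvd_prime_pow Nat.prime_three).1 (orderOf_dvd_of_pow_eq_one he')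
  have hco : IsCoprime ((orderOf q : ℕ) : ℤ) (a - 1) := by
    rw [hi]
    push_cast
    exact ((Nat.prime_iff_prime_int.1 Nat.prime_three).coprime_iff_not_dvd.2 (by omega)).pow_left
  refine hg1 (hj ▸ orderOf_dvd_iff_zpow_eq_one.1 (hco.dvd_of_dvd_mul_left ?_))
  rwa [show (a - 1) * j = a * j - j by ring]

/-- `p = 3`: no element of order three commutes with an involution other than `z`. -/
theorem eq_z_three (hC : CycOdd C) (h3 : p = 3) {g : C} (hg : orderOf g = 3) {t : C}
    (ht : orderOf t = 2) (htg : Commute t g) : t = σ ^ m := by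
  by_cases hgO : g ∈ Cfsg.oddCore C
  · exact h.eq_z_of_mem_core_three hC h3 hg hgO ht htg
  · exact h.eq_z_of_outside Nat.prime_three (by subst h3; decide) hg hgO ht htg

/-- `p = 5`: `15` is prime to `|O(C)|`. -/
theorem not_dvd_five (hC : CycOdd C) (h5 : p = 5) :
    ¬ 3 ∣ Nat.card (Cfsg.oddCore C) ∧ ¬ 5 ∣ Nat.card (Cfsg.oddCore C) := by
  refine ⟨h.not_dvd hC h5.ge Nat.prime_three ?_, h.not_dvd hC h5.ge (by norm_num) ?_⟩ <;> subst h5 <;>
    decide

/-- `p = 5`: an element of order five commutes with no involution other than `z`. -/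
theorem eq_z_five (hC : CycOdd C) (h5 : p = 5) {g : C} (hg : orderOf g = 5) {t : C}
    (ht : orderOf t = 2) (htg : Commute t g) : t = σ ^ m :=
  h.eq_z_of_outside (by norm_num) (by subst h5; decide) hg
    (fun hgO => (h.not_dvd_five hC h5).2 (hg ▸ Subgroup.orderOf_dvd_natCard _ hgO)) ht htg

/-- The cover has `p + 1` Sylow `p`-subgroups when `p` is prime to `|O(C)|`. -/
theorem card_sylow_cover (hC : CycOdd C) (hcop : ¬ p ∣ Nat.card (Cfsg.oddCore C)) :
    Nat.card (Sylow p (cover C)) = p + 1 := by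
  classical
  haveI : (commutator (C ⧸ Cfsg.oddCore C)).Normal := inferInstance
  set O := Cfsg.oddCore C with hO
  set L := commutator (C ⧸ O) with hL
  have h3 := h.shape.p_three_le
  have hcard : Nat.card (cover C) = p * ((p - 1) * (p + 1) * Nat.card O) := by
    refine Nat.eq_of_mul_eq_mul_right two_pos ?_
    have := (cover C).card_mul_index
    rw [h.cover_index_two] at this
    rw [this, h.card_eq]
    ring
  have hp1 : ∀ R : Sylow p (cover C), Nat.card (R : Subgroup (cover C)) = p := by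
    intro R
    obtain ⟨a, ha⟩ := R.2.exists_card_eq
    have hnd : ¬ p ∣ (p - 1) * (p + 1) * Nat.card O := by
      rintro hd
      rcases (hp.out.dvd_mul).1 hd with hd | hd
      · rcases (hp.out.dvd_mul).1 hd with hd | hd
        · exact absurd (Nat.le_of_dvd (by omega) hd) (by omega)
        · exact absurd (Nat.le_of_dvd (by omega) ((Nat.dvd_add_right dvd_rfl).1 hd)) (by omega)
      · exact hcop hd
    rw [R.card_eq_multiplicity, hcard, Nat.factorization_mul hp.out.ne_zero (fun e => hnd (by rw [e]; exact dvd_zero p)),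
      Finsupp.add_apply, hp.out.factorization_self, Nat.factorization_eq_zero_of_not_dvd hnd, add_zero,
      pow_one]
  let f : Sylow p (cover C) → Pt L p := fun R =>
    ⟨((R : Subgroup (cover C)).map (cover C).subtype).map π₀, by
      rintro _ ⟨_, ⟨c, -, rfl⟩, rfl⟩
      exact c.2, by
      have hp' : Nat.card ((R : Subgroup (cover C)).map (cover C).subtype) = p := by
        rw [Subgroup.card_map_of_injective (cover C).subtype_injective, hp1 R]
      have h1 := card_map_inf_ker π₀ ((R : Subgroup (cover C)).map (cover C).subtype)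
      rw [hp', QuotientGroup.ker_mk'] at h1
      have h2 : Nat.card ↥((R : Subgroup (cover C)).map (cover C).subtype ⊓ O) = 1 := by
        refine ((Nat.dvd_prime hp.out).1 ((dvd_mul_left _ _).trans (dvd_of_eq h1))).resolve_right fun e => hcop ?_
        exact (dvd_of_eq e.symm).trans (Subgroup.card_dvd_of_le inf_le_right)
      rwa [h2, mul_one] at h1⟩
  have hf : Function.Bijective f := by
    refine ⟨fun R R' e => ?_, fun A => ?_⟩
    · refine (Sylow.ext (Subgroup.eq_of_le_of_card_ge (fun v hv => ?_) ((hp1 R).le.trans (hp1 R').ge))).symm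
      obtain ⟨_, ⟨u, hu, rfl⟩, he⟩ := (congrArg Subtype.val e).ge
        (Subgroup.mem_map_of_mem π₀ (Subgroup.mem_map_of_mem (cover C).subtype hv))
      have ho : (u : C)⁻¹ * v ∈ O := QuotientGroup.eq.1 he
      have hord : ∀ {R : Sylow p (cover C)} {w : cover C}, w ∈ (R : Subgroup (cover C)) →
          ((w : cover C) : C) ^ p = 1 := fun {R w} hw => by
        have h1 : w ^ p = 1 := orderOf_dvd_iff_pow_eq_one.1 (hp1 R ▸ Subgroup.orderOf_dvd_natCard _ hw)
        exact (Subgroup.coe_pow _ w p).symm.trans (congrArg Subtype.val h1)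
      have hcm : Commute (u : C) ((u : C)⁻¹ * v) := comm_core hC u.2
        (Nat.Coprime.coprime_dvd_left (orderOf_dvd_of_pow_eq_one (hord hu))
          (hp.out.coprime_iff_not_dvd.2 hcop)) ho
      have h2 : ((u : C)⁻¹ * v) ^ p = 1 := by
        have h3 := hcm.mul_pow p
        rwa [mul_inv_cancel_left, hord hv, hord hu, one_mul, eq_comm] at h3
      have h4 : (u : C)⁻¹ * v = 1 := orderOf_eq_one_iff.1 (Nat.eq_one_of_dvd_coprimes
        (hp.out.coprime_iff_not_dvd.2 hcop) (orderOf_dvd_of_pow_eq_one h2)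
        (Subgroup.orderOf_dvd_natCard _ ho))
      rw [inv_mul_eq_one] at h4
      exact (Subtype.ext h4 : u = v) ▸ hu
    · set M := A.1.comap π₀ with hM
      have hMd : p ∣ Nat.card M := by
        have hsurj : A.1 = M.map π₀ :=
          (Subgroup.map_comap_eq_self_of_surjective (QuotientGroup.mk'_surjective O) A.1).symm
        conv_lhs => rw [← A.2.2, hsurj]
        exact Subgroup.card_map_dvd _ _
      obtain ⟨⟨x, hxM⟩, hx⟩ := exists_prime_orderOf_dvd_card' (G := M) p hMd
      rw [Subgroup.orderOf_mk] at hx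
      have hxc : x ∈ cover C := A.2.1 hxM
      obtain ⟨R, hR⟩ := (show IsPGroup p (Subgroup.zpowers (⟨x, hxc⟩ : cover C)) from
        IsPGroup.of_card (n := 1) (by rw [Nat.card_zpowers, Subgroup.orderOf_mk, hx, pow_one])).exists_le_sylow
      refine ⟨R, Subtype.ext ?_⟩
      have hx1 : π₀ x ≠ 1 := fun e => hcop (hx ▸ Subgroup.orderOf_dvd_natCard _ ((QuotientGroup.eq_one_iff x).1 e))
      have hgen : ∀ U : Pt L p, π₀ x ∈ U.1 → U.1 = Subgroup.zpowers (π₀ x) := fun U hU =>
        (Subgroup.eq_of_le_of_card_ge (Subgroup.zpowers_le.2 hU) (by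
          rw [U.2.2, Nat.card_zpowers]
          refine le_of_eq (((Nat.dvd_prime hp.out).1 (hx ▸ orderOf_map_dvd _ x)).resolve_left
            fun e => hx1 (orderOf_eq_one_iff.1 e)).symm)).symm
      rw [hgen A hxM, hgen (f R) ?_]
      exact Subgroup.mem_map_of_mem π₀ ⟨⟨x, hxc⟩, hR (Subgroup.mem_zpowers _), rfl⟩
  rw [Nat.card_eq_of_bijective f hf, h.shape.card_pt]

/-- `p = 5`: six Sylow `5`-subgroups in the cover. -/
theorem card_sylow_five (hC : CycOdd C) (h5 : p = 5) : Nat.card (Sylow p (cover C)) = 6 := by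
  rw [h.card_sylow_cover hC (by subst h5; exact (h.not_dvd_five hC rfl).2), h5]

end LocalHyp

end Cfsg.Agent.Lib.SDOrder
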