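import Cfsg.Agent.Lib.SDOrder.Facts2
import Cfsg.Agent.Lib.SDBlock25.Count

/-!
# Facts on `C = C(σ ^ m)`, transfer to the group

For an even rotation outside `⟨z⟩` the centraliser in `G` lies in `C`; the order of the odd core of
that centraliser and of its part commuting with `y`, in the form the block engine wants.
-/

set_option autoImplicit false
set_option linter.style.haveILetI false
set_option linter.unusedSectionVars false

namespace Cfsg.Agent.Lib.SDOrder

open Cfsg.Agent.Lib.SemiQuatDefect.Group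
open Matrix
open scoped MatrixGroups commutatorElement

universe u

variable {G : Type u} [Group G] [Finite G] {P : Sylow 2 G} {m : ℕ} {σ y : G}

/-- The data as the block engine takes them. -/
theorem SD.sections (hsd : SD P m σ y) : SDBlock25.Sections.SD P m σ := ⟨hsd.four_le, hsd.ext⟩

/-- `C(σ ^ i) ≤ C(σ ^ m)` unless `σ ^ i` has order at most two. -/
theorem SD.centralizer_rot_le (hsd : SD P m σ y) {i : ℕ} (h1 : σ ^ i ≠ 1) (hz : σ ^ i ≠ σ ^ m) :
    Subgroup.centralizer ({σ ^ i} : Set G) ≤ Subgroup.centralizer ({σ ^ m} : Set G) := by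
  intro g hg
  have h2 : σ ^ i * σ ^ i ≠ 1 := fun e => by
    rw [← pow_add, ← two_mul, ← orderOf_dvd_iff_pow_eq_one, hsd.ext.order] at e
    rcases hsd.ext.pow_mem_zm (Nat.dvd_of_mul_dvd_mul_left two_pos e) with e' | e'
    exacts [h1 e', hz e']
  obtain ⟨k, hk⟩ := Subgroup.mem_zpowers_iff.1 (hsd.ext.z_mem_zpowers (pow_mem hsd.ext.mem i) h2)
  rw [Subgroup.mem_centralizer_singleton_iff, ← hk]
  exact ((show Commute g (σ ^ i) from Subgroup.mem_centralizer_singleton_iff.1 hg).zpow_right k).eq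

variable {p : ℕ} [Fact p.Prime] {hPC : (P : Subgroup G) ≤ Subgroup.centralizer ({σ ^ m} : Set G)}
  [(Cfsg.oddCore ↥(Subgroup.centralizer ({σ ^ m} : Set G))).Normal] (hsd : SD P m σ y)
  (hC : CycOdd ↥(Subgroup.centralizer ({σ ^ m} : Set G)))
  (h : LocalHyp (P.subtype hPC) m ⟨σ, hPC hsd.ext.mem⟩ ⟨y, hPC hsd.y_mem⟩ p)
  {i : ℕ} (hi : Even i) (h1 : σ ^ i ≠ 1) (hz : σ ^ i ≠ σ ^ m)

include hsd hC h hi h1 hz

/-- `|C_G(σ ^ i)| = 2 |π + 1| k`. -/
theorem card_centralizer_rot_G : Nat.card (Subgroup.centralizer ({σ ^ i} : Set G)) =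
    2 * (signedP p + 1).natAbs *
      Nat.card (Cfsg.oddCore ↥(Subgroup.centralizer ({σ ^ m} : Set G))) := by
  rw [← h.card_centralizer_rot hC hi (fun e => h1 (congrArg Subtype.val e :))
    (fun e => hz (congrArg Subtype.val e :))]
  refine Nat.card_congr ⟨fun g => ⟨⟨g.1, hsd.centralizer_rot_le h1 hz g.2⟩, ?_⟩,
    fun g => ⟨g.1.1, ?_⟩, fun _ => rfl, fun _ => rfl⟩
  · exact Subgroup.mem_centralizer_singleton_iff.2
      (Subtype.ext (Subgroup.mem_centralizer_singleton_iff.1 g.2))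
  · exact Subgroup.mem_centralizer_singleton_iff.2
      (congrArg Subtype.val (Subgroup.mem_centralizer_singleton_iff.1 g.2) :)

/-- `|O(C_G(σ ^ i))| m = |π + 1| k`. -/
theorem card_core_rot : Nat.card (SDBlock25.Count.core (σ ^ i)) * m =
    (signedP p + 1).natAbs *
      Nat.card (Cfsg.oddCore ↥(Subgroup.centralizer ({σ ^ m} : Set G))) := by
  have e := (SDBlock25.Count.card_centralizer hsd.sections h1 hz).symm.trans
    (card_centralizer_rot_G hsd hC h hi h1 hz)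
  refine Nat.eq_of_mul_eq_mul_left two_pos ?_
  rw [mul_left_comm, e, mul_assoc]

/-- The part of `O(C_G(σ ^ i))` commuting with `y` is that of `O(C)`. -/
theorem card_core_comm : Nat.card {v : G // v ∈ SDBlock25.Count.core (σ ^ i) ∧ y * v = v * y} =
    Nat.card {o : ↥(Subgroup.centralizer ({σ ^ m} : Set G)) //
      o ∈ Cfsg.oddCore ↥(Subgroup.centralizer ({σ ^ m} : Set G)) ∧
        o * ⟨y, hPC hsd.y_mem⟩ = ⟨y, hPC hsd.y_mem⟩ * o} := by
  set C := Subgroup.centralizer ({σ ^ m} : Set G) with hCdef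
  set σ' : C := ⟨σ, hPC hsd.ext.mem⟩ with hσ'
  set y' : C := ⟨y, hPC hsd.y_mem⟩ with hy'
  have h1' : σ' ^ i ≠ 1 := fun e => h1 (congrArg Subtype.val e :)
  have hz' : σ' ^ i ≠ σ' ^ m := fun e => hz (congrArg Subtype.val e :)
  have hmem : ∀ v : G, v ∈ SDBlock25.Count.core (σ ^ i) → v ∈ C := fun v hv =>
    hsd.centralizer_rot_le h1 hz
      (Subgroup.mem_centralizer_singleton_iff.2 (SDBlock25.Count.core_comm hv).eq.symm)
  obtain ⟨hvs, hvL, hv2, hwv⟩ := h.map_rot hi h1' hz'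
  obtain ⟨j, hj⟩ := (P.subtype hPC).2 ⟨σ' ^ i, pow_mem h.sd.ext.mem i⟩
  refine Nat.card_congr ⟨fun v => ⟨⟨v.1, hmem _ v.2.1⟩, ?_, Subtype.ext v.2.2.symm⟩,
    fun o => ⟨o.1.1, ?_, (congrArg Subtype.val o.2.2 :).symm⟩, fun _ => rfl, fun _ => rfl⟩
  · set v' : C := ⟨v.1, hmem _ v.2.1⟩
    have hodd : Odd (orderOf v') := by
      rw [← Subgroup.orderOf_coe]
      exact SDBlock25.Count.core_odd v.2.1
    set π := QuotientGroup.mk' (Cfsg.oddCore C)
    have hd : π v' ∈ Subgroup.centralizer ({π (σ' ^ i)} : Set (C ⧸ Cfsg.oddCore C)) ⊓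
        Subgroup.centralizer ({π y'} : Set (C ⧸ Cfsg.oddCore C)) := by
      refine Subgroup.mem_inf.2 ⟨Subgroup.mem_centralizer_singleton_iff.2 ?_,
        Subgroup.mem_centralizer_singleton_iff.2 ?_⟩
      · rw [← map_mul, ← map_mul]
        exact congrArg π (Subtype.ext (SDBlock25.Count.core_comm v.2.1).eq.symm)
      · rw [← map_mul, ← map_mul]
        exact congrArg π (Subtype.ext v.2.2.symm)
    rcases h.shape.mem_inf_centralizer hvs hvL hv2 hwv hd with e | e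
    · exact (QuotientGroup.eq_one_iff v').1 e
    · exfalso
      have h2 : orderOf (π v') ∣ orderOf v' := orderOf_map_dvd _ _
      rw [e, h.shape.sd.ext.orderOf_z] at h2
      exact hodd.not_two_dvd_nat h2
  · refine SDBlock25.Count.mem_core hsd.sections h1 hz ?_ ?_
    · have := LocalHyp.comm_core_two hC (h.pow_even_mem_cover hi) (congrArg Subtype.val hj :) o.2.1
      exact Subtype.ext_iff.1 this.eq
    · rw [Subgroup.orderOf_coe]
      exact Odd.of_dvd_nat ZStar.Elements.oddCore_odd (Subgroup.orderOf_dvd_natCard _ o.2.1)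

/-- The ratio wanted by `SDBlock25.Main.exists_degrees`: `ρ = |π + 1| k / (m c ^ 2)`. -/
theorem rho_spec : (Nat.card (SDBlock25.Count.core (σ ^ i)) : ℚ) =
    ((((signedP p + 1).natAbs *
          Nat.card (Cfsg.oddCore ↥(Subgroup.centralizer ({σ ^ m} : Set G))) : ℕ) : ℚ) /
        ((m : ℚ) * (Nat.card {o : ↥(Subgroup.centralizer ({σ ^ m} : Set G)) //
          o ∈ Cfsg.oddCore ↥(Subgroup.centralizer ({σ ^ m} : Set G)) ∧
            o * ⟨y, hPC hsd.y_mem⟩ = ⟨y, hPC hsd.y_mem⟩ * o} : ℚ) ^ 2)) *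
      (Nat.card {v : G // v ∈ SDBlock25.Count.core (σ ^ i) ∧ y * v = v * y} : ℚ) ^ 2 := by
  rw [card_core_comm hsd hC h hi h1 hz, ← card_core_rot hsd hC h hi h1 hz]
  haveI : Nonempty {o : ↥(Subgroup.centralizer ({σ ^ m} : Set G)) //
      o ∈ Cfsg.oddCore ↥(Subgroup.centralizer ({σ ^ m} : Set G)) ∧
        o * ⟨y, hPC hsd.y_mem⟩ = ⟨y, hPC hsd.y_mem⟩ * o} := ⟨⟨1, one_mem _, by rw [one_mul, mul_one]⟩⟩
  have hm : (m : ℚ) ≠ 0 := Nat.cast_ne_zero.2 hsd.ext.pos.ne'
  have hc := Nat.cast_ne_zero (R := ℚ).2 (Nat.card_pos (α := {o : ↥(Subgroup.centralizer ({σ ^ m} : Set G)) //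
      o ∈ Cfsg.oddCore ↥(Subgroup.centralizer ({σ ^ m} : Set G)) ∧
        o * ⟨y, hPC hsd.y_mem⟩ = ⟨y, hPC hsd.y_mem⟩ * o})).ne'
  rw [Nat.cast_mul]
  field_simp

end Cfsg.Agent.Lib.SDOrder
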