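import Cfsg.Agent.Lib.SDOrder.Facts2

/-!
# Facts on `C = C(σ ^ m)`, part 4: the centraliser and normaliser of an element of order `p`
-/

set_option autoImplicit false
set_option linter.style.haveILetI false
set_option linter.unusedSectionVars false

namespace Cfsg.Agent.Lib.SDOrder

open Cfsg.Agent.Lib.SemiQuatDefect.Group
open Matrix
open scoped MatrixGroups

universe u

namespace Shape

variable {H : Type u} [Group H] [Finite H] {S : Sylow 2 H} {m : ℕ} {s w : H} {L : Subgroup H} {p : ℕ}
  [hp : Fact p.Prime] [L.Normal] (h : Shape S m s w L p)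

include h

/-- `|N(U)| = 2 p (p - 1)` for a point `U`. -/
theorem card_normalizer_pt (A : Pt L p) :
    Nat.card (Subgroup.normalizer (A.1 : Set H)) = 2 * (p * (p - 1)) := by
  haveI := h.pretransitive
  have e : Subgroup.normalizer (A.1 : Set H) = MulAction.stabilizer H A := by
    ext g
    rw [MulAction.mem_stabilizer_iff, smul_eq_iff]
  rw [e]
  refine Nat.eq_of_mul_eq_mul_right (show 0 < p + 1 by omega) ?_
  rw [← h.card_pt, ← MulAction.index_stabilizer_of_transitive H A, Subgroup.card_mul_index, h.card_H,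
    MulAction.index_stabilizer_of_transitive H A, h.card_pt]
  ring

/-- `|C(u)| = 2 p` for an element `u` of order `p` of a point. -/
theorem card_centralizer_pt {A : Pt L p} {u : H} (hu : u ∈ A.1) (hu1 : u ≠ 1) :
    Nat.card (Subgroup.centralizer ({u} : Set H)) = 2 * p := by
  have hA : A.1 = Subgroup.zpowers u := by
    refine (Subgroup.eq_of_le_of_card_ge (Subgroup.zpowers_le.2 hu) ?_).symm
    rw [A.2.2, Nat.card_zpowers]
    have h1 : orderOf u ∣ p := by
      have := Subgroup.orderOf_dvd_natCard _ hu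
      rwa [A.2.2] at this
    exact (((Nat.dvd_prime hp.out).1 h1).resolve_left fun e => hu1 (orderOf_eq_one_iff.1 e)).ge
  set N := Subgroup.normalizer (A.1 : Set H) with hN
  set φ : ↥N →* MulAut A.1 := Subgroup.normalizerMonoidHom A.1 with hφ
  have hcu : Subgroup.centralizer ({u} : Set H) = φ.ker.map N.subtype := by
    refine le_antisymm (fun g hg => ?_) ?_
    · have hc : ∀ v ∈ A.1, g * v = v * g := fun v hv => by
        rw [hA] at hv
        obtain ⟨i, rfl⟩ := Subgroup.mem_zpowers_iff.1 hv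
        exact ((show Commute g u from Subgroup.mem_centralizer_singleton_iff.1 hg).zpow_right i).eq
      have hgN : g ∈ N := Subgroup.mem_normalizer_fintype fun v hv => by
        rw [SetLike.mem_coe, hc v hv, mul_inv_cancel_right]
        exact hv
      refine ⟨⟨g, hgN⟩, MonoidHom.mem_ker.2 (MulEquiv.ext fun v => Subtype.ext ?_), rfl⟩
      show g * (v : H) * g⁻¹ = v
      rw [hc v v.2, mul_inv_cancel_right]
    · rintro _ ⟨g, hg, rfl⟩
      rw [Subgroup.mem_centralizer_singleton_iff]
      have h1 : (g : H) * u * (g : H)⁻¹ = u :=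
        congrArg Subtype.val (DFunLike.congr_fun (MonoidHom.mem_ker.1 hg) (⟨u, hu⟩ : A.1))
      exact mul_inv_eq_iff_eq_mul.1 h1
  have hcard : Nat.card (MulAut A.1) = p - 1 := by
    haveI : IsCyclic A.1 := isCyclic_of_prime_card A.2.2
    rw [IsCyclic.card_mulAut, A.2.2, Nat.totient_prime hp.out]
  have hrange : φ.range = ⊤ := by
    rw [eq_top_iff]
    intro f _
    obtain ⟨i, hi⟩ : ∃ i : ℕ, u ^ i = (f ⟨u, hu⟩ : A.1).1 := by
      have h1 : (f ⟨u, hu⟩ : A.1).1 ∈ Subgroup.zpowers u := hA ▸ (f ⟨u, hu⟩).2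
      exact (mem_powers_iff_mem_zpowers.2 h1 : _ ∈ Submonoid.powers u)
    have hi' : ¬ p ∣ i := fun hd => hu1 (congrArg Subtype.val (show (⟨u, hu⟩ : A.1) = 1 from
      f.injective (Subtype.ext (by
        rw [← hi, map_one]
        obtain ⟨d, rfl⟩ := hd
        rw [pow_mul]
        have : u ^ p = 1 := orderOf_dvd_iff_pow_eq_one.1 (A.2.2 ▸ Subgroup.orderOf_dvd_natCard _ hu)
        rw [this, one_pow]
        rfl))))
    obtain ⟨g, hg⟩ := h.exists_conj_pow A hu hi'
    have hgN : g ∈ N := Subgroup.mem_normalizer_fintype fun v hv => by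
      rw [SetLike.mem_coe, hA] at hv ⊢
      obtain ⟨j, rfl⟩ := Subgroup.mem_zpowers_iff.1 hv
      rw [← conj_zpow, hg]
      exact zpow_mem (Subgroup.npow_mem_zpowers u i) j
    refine ⟨⟨g, hgN⟩, MulEquiv.ext fun v => ?_⟩
    obtain ⟨j, hj⟩ := Subgroup.mem_zpowers_iff.1 (show (v : H) ∈ Subgroup.zpowers u from hA ▸ v.2)
    have hv : v = (⟨u, hu⟩ : A.1) ^ j := Subtype.ext hj.symm
    rw [hv, map_zpow, map_zpow]
    exact congrArg (· ^ j) (Subtype.ext ((show g * u * g⁻¹ = _ from hg).trans hi))
  rw [hcu, Subgroup.card_map_of_injective N.subtype_injective]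
  refine Nat.eq_of_mul_eq_mul_right (show 0 < p - 1 by have := hp.out.two_le; omega) ?_
  have h1 : φ.ker.index = p - 1 := by rw [Subgroup.index_ker, hrange, Subgroup.card_top, hcard]
  rw [← h1, Subgroup.card_mul_index, h.card_normalizer_pt A, h1]
  ring

end Shape

namespace LocalHyp

variable {C : Type u} [Group C] [Finite C] {P : Sylow 2 C} {m : ℕ} {σ y : C} {p : ℕ} [hp : Fact p.Prime]
  [(Cfsg.oddCore C).Normal] (h : LocalHyp P m σ y p)

include h

local notation "π₀" => QuotientGroup.mk' (Cfsg.oddCore C)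

/-- With trivial core: `|C(g)| = 2 p` and `|N(⟨g⟩)| = 2 p (p - 1)` for `g` of order `p`. -/
theorem card_centralizer_order_p (hk : Nat.card (Cfsg.oddCore C) = 1) {g : C} (hg : orderOf g = p) :
    Nat.card (Subgroup.centralizer ({g} : Set C)) = 2 * p ∧
      Nat.card (Subgroup.normalizer ((Subgroup.zpowers g : Subgroup C) : Set C)) = 2 * (p * (p - 1)) := by
  have hbij : Function.Bijective π₀ := by
    refine ⟨(MonoidHom.ker_eq_bot_iff _).1 ?_, QuotientGroup.mk'_surjective _⟩
    rw [QuotientGroup.ker_mk']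
    exact Subgroup.card_eq_one.1 hk
  let e : C ≃* C ⧸ Cfsg.oddCore C := MulEquiv.ofBijective _ hbij
  have hgo : orderOf (e g) = p := (e.orderOf_eq g).trans hg
  have hgL : e g ∈ commutator (C ⧸ Cfsg.oddCore C) := by
    obtain ⟨d, hd⟩ := hp.out.odd_of_ne_two h.odd
    have h2 : e g = (e g * e g) ^ (d + 1) := by
      rw [← pow_two, ← pow_mul, show 2 * (d + 1) = orderOf (e g) + 1 by omega, pow_succ, pow_orderOf_eq_one,
        one_mul]
    rw [h2]
    exact pow_mem ((Subgroup.mul_mem_iff_of_index_two h.shape.index_two).2 Iff.rfl) _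
  let A : Pt (commutator (C ⧸ Cfsg.oddCore C)) p :=
    ⟨Subgroup.zpowers (e g), Subgroup.zpowers_le.2 hgL, by rw [Nat.card_zpowers, hgo]⟩
  have hne : e g ≠ 1 := fun e1 => by
    rw [e1, orderOf_one] at hgo
    exact hp.out.ne_one hgo.symm
  constructor
  · rw [← h.shape.card_centralizer_pt (A := A) (Subgroup.mem_zpowers _) hne,
      ← Subgroup.card_map_of_injective (f := e.toMonoidHom) (K := Subgroup.centralizer ({g} : Set C)) e.injective]
    refine congrArg (fun K : Subgroup (C ⧸ Cfsg.oddCore C) => Nat.card K) (le_antisymm ?_ fun x hx => ?_)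
    · rintro _ ⟨c, hc, rfl⟩
      rw [Subgroup.mem_centralizer_singleton_iff]
      exact (map_mul e _ _).symm.trans ((congrArg e (Subgroup.mem_centralizer_singleton_iff.1 hc)).trans
        (map_mul e _ _))
    · obtain ⟨c, rfl⟩ := e.surjective x
      refine ⟨c, Subgroup.mem_centralizer_singleton_iff.2 (e.injective ?_), rfl⟩
      rw [map_mul, map_mul]
      exact Subgroup.mem_centralizer_singleton_iff.1 hx
  · rw [← h.shape.card_normalizer_pt A,
      ← Subgroup.card_map_of_injective (f := e.toMonoidHom)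
        (K := Subgroup.normalizer ((Subgroup.zpowers g : Subgroup C) : Set C)) e.injective]
    have he : Subgroup.zpowers (e g) = (Subgroup.zpowers g).map e.toMonoidHom :=
      (MonoidHom.map_zpowers e.toMonoidHom g).symm
    rw [Subgroup.map_equiv_normalizer_eq, ← he]

end LocalHyp

end Cfsg.Agent.Lib.SDOrder
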