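import Cfsg.Agent.Lib.SDOrder.LocalSt
import Cfsg.Agent.Lib.SDOrder.Statement

/-!
# `LocalFull` for `C = C(σ ^ m)`

`localFull` works in `C`; `propLocal_of_three` builds it in `G` from Gorenstein–Walter, provided `3` does not
divide `|O(C)|` when `p = 3` (for `p ≥ 5` the coprimality follows from the cyclic Sylow subgroups).
-/

set_option autoImplicit false
set_option linter.style.haveILetI false
set_option linter.unusedSectionVars false

namespace Cfsg.Agent.Lib.SDOrder

open Cfsg.Agent.Lib.SemiQuatDefect.Group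
open Matrix
open scoped MatrixGroups commutatorElement

universe u

/-- A semidihedral group in coordinates is quasi-dihedral. -/
theorem SD.isQuasiDihedral {G : Type u} [Group G] {P : Sylow 2 G} {m : ℕ} {σ y : G} (h : SD P m σ y) :
    Cfsg.IsQuasiDihedral (P : Subgroup G) := by
  obtain ⟨k, hk⟩ := h.ext.pow
  have hk2 : 2 ≤ k := by
    by_contra hlt
    have := h.four_le
    have : 2 ^ k ≤ 2 ^ 1 := Nat.pow_le_pow_right two_pos (by omega)
    omega
  refine ⟨k + 1, by omega, ?_, ⟨σ, h.ext.mem⟩, ⟨y, h.y_mem⟩, ?_, ?_, Subtype.ext ?_⟩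
  · rw [h.ext.card, hk]; ring
  · rw [Subgroup.orderOf_mk, h.ext.order, hk, pow_succ]; ring
  · rw [Subgroup.orderOf_mk]
    exact orderOf_eq_prime (by rw [pow_two, h.y_sq]) fun e => h.y_notMem (e ▸ one_mem _)
  · show y * σ * y⁻¹ = σ ^ (2 ^ (k + 1 - 1) - 1)
    rw [h.ext.conj y h.y_mem h.y_notMem, hk, Nat.add_sub_cancel]

/-- The Sylow data inside a subgroup containing it. -/
theorem SD.subgroupOf {G : Type u} [Group G] {P : Sylow 2 G} {m : ℕ} {σ y : G} (h : SD P m σ y)
    {K : Subgroup G} (hP : (P : Subgroup G) ≤ K) :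
    SD (P.subtype hP) m ⟨σ, hP h.ext.mem⟩ ⟨y, hP h.y_mem⟩ := by
  have hz : ∀ v : K, v ∈ Subgroup.zpowers (⟨σ, hP h.ext.mem⟩ : K) ↔ (v : G) ∈ Subgroup.zpowers σ := by
    intro v
    simp only [Subgroup.mem_zpowers_iff, Subtype.ext_iff, SubgroupClass.coe_zpow]
  have hmem : ∀ v : K, v ∈ (P.subtype hP : Subgroup K) ↔ (v : G) ∈ (P : Subgroup G) := by
    intro v
    rw [Sylow.coe_subtype, Subgroup.mem_subgroupOf]
  refine ⟨⟨h.ext.two_le, h.ext.pow, (hmem _).2 h.ext.mem, ?_, ?_, ?_, h.ext.dvd, h.ext.four⟩,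
    h.four_le, (hmem _).2 h.y_mem, fun hc => h.y_notMem ((hz _).1 hc), Subtype.ext h.y_sq⟩
  · rw [Subgroup.orderOf_mk, h.ext.order]
  · rw [Sylow.coe_subtype, Nat.card_congr (Subgroup.subgroupOfEquivOfLe hP).toEquiv, h.ext.card]
  · intro v hv hvx
    exact Subtype.ext (h.ext.conj v ((hmem v).1 hv) fun hc => hvx ((hz v).2 hc))

/-- The order of a subgroup as image times kernel part. -/
theorem card_map_inf_ker {A B : Type*} [Group A] [Group B] (f : A →* B) (K : Subgroup A) :
    Nat.card (K.map f) * Nat.card ↥(K ⊓ f.ker) = Nat.card K := by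
  have e1 : (f.comp K.subtype).range = K.map f := by
    rw [MonoidHom.range_comp, Subgroup.range_subtype]
  have e2 : (f.comp K.subtype).ker.map K.subtype = K ⊓ f.ker := by
    ext y
    constructor
    · rintro ⟨z, hz, rfl⟩
      exact ⟨z.2, hz⟩
    · rintro ⟨h1, h2⟩
      exact ⟨⟨y, h1⟩, h2, rfl⟩
  have h1 := Subgroup.card_eq_card_quotient_mul_card_subgroup (f.comp K.subtype).ker
  rw [Nat.card_congr (QuotientGroup.quotientKerEquivRange (f.comp K.subtype)).toEquiv, e1,
    ← Subgroup.card_map_of_injective (K.subtype_injective), e2] at h1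
  exact h1.symm

theorem signedP_three {p : ℕ} (h4 : p % 4 = 3) : signedP p = p := by simp [signedP, h4]

theorem signedP_one {p : ℕ} (h4 : p % 4 = 1) : signedP p = -(p : ℤ) := by simp [signedP, h4]

theorem natAbs_signedP_sq (p : ℕ) (hp : 1 ≤ p) : (signedP p ^ 2 - 1).natAbs = (p - 1) * (p + 1) := by
  have e : signedP p ^ 2 - 1 = (((p - 1) * (p + 1) : ℕ) : ℤ) := by
    unfold signedP
    push_cast [Nat.cast_sub hp]
    split_ifs <;> ring
  rw [e, Int.natAbs_natCast]

namespace LocalHyp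

variable {C : Type u} [Group C] [Finite C] {P : Sylow 2 C} {m : ℕ} {σ y : C} {p : ℕ} [hp : Fact p.Prime]
  [(Cfsg.oddCore C).Normal] (h : LocalHyp P m σ y p)

include h

local notation "π₀" => QuotientGroup.mk' (Cfsg.oddCore C)

theorem card_centralizer_w : Nat.card (Subgroup.centralizer ({π₀ y} : Set (C ⧸ Cfsg.oddCore C))) =
    2 * (signedP p - 1).natAbs := by
  have h3 := h.shape.p_three_le
  rcases h.shape.odd_p with h4 | h4
  · rw [h.shape.card_centralizer_w_one h4, signedP_one h4,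
      show -(p : ℤ) - 1 = -((p + 1 : ℕ) : ℤ) by push_cast; ring, Int.natAbs_neg, Int.natAbs_natCast]
  · rw [h.shape.card_centralizer_w_three h4, signedP_three h4,
      show (p : ℤ) - 1 = ((p - 1 : ℕ) : ℤ) by omega, Int.natAbs_natCast]

/-- `LocalFull` inside `C`. -/
theorem localFull (hcop : ¬ p ∣ Nat.card (Cfsg.oddCore C))
    (hcop2 : (Nat.card (Cfsg.oddCore C)).Coprime ((p - 1) * (p + 1))) :
    ∃ (x : C) (π : ℤ), LocalFull C m σ y x π := by
  classical
  haveI : Fact (Nat.Prime 2) := ⟨Nat.prime_two⟩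
  obtain ⟨x, A, hx, hxA, hx1⟩ := h.exists_x hcop
  have h3 := h.shape.p_three_le
  refine ⟨x, signedP p, ⟨⟨?_, ?_, ?_, h.central, ?_, ?_, fun χ => h.x_ker hxA hx1 χ, ?_, h.exists_sgn hxA⟩,
    ?_, ?_, ?_, ?_, ?_, ?_⟩⟩
  · rw [natAbs_signedP]; exact hp.out
  · rcases h.shape.odd_p with h4 | h4
    · rw [signedP_one h4]; omega
    · rw [signedP_three h4]; omega
  · rcases h.shape.odd_p with h4 | h4
    · obtain ⟨B, hB, e⟩ := h.shape.exact_two.2 h4
      refine ⟨-(B : ℤ), (hB.natCast : Odd (B : ℤ)).neg, ?_⟩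
      rw [signedP_one h4, show -(p : ℤ) + 1 = -((p - 1 : ℕ) : ℤ) by omega, e]
      push_cast
      ring
    · obtain ⟨B, hB, e⟩ := h.shape.exact_two.1 h4
      refine ⟨(B : ℤ), hB.natCast, ?_⟩
      rw [signedP_three h4, show (p : ℤ) + 1 = ((p + 1 : ℕ) : ℤ) by omega, e]
      push_cast
      ring
  · rw [natAbs_signedP, hx]
  · intro i hi
    rw [natAbs_signedP] at hi
    exact h.rational hcop hx hxA i hi
  · rw [natAbs_signedP]
    exact h.exists_St hxA hx1
  · rw [natAbs_signedP, natAbs_signedP_sq p (by omega), h.card_eq]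
    ring
  · rwa [natAbs_signedP]
  · rwa [natAbs_signedP_sq p (by omega)]
  · -- the centraliser of `y`
    set O := Cfsg.oddCore C
    set K := Subgroup.centralizer ({y} : Set C) with hK
    have hker : Nat.card ↥(K ⊓ (π₀).ker) = Nat.card {o : C // o ∈ O ∧ o * y = y * o} := by
      rw [QuotientGroup.ker_mk']
      exact Nat.card_congr (Equiv.subtypeEquivRight fun o => by
        rw [Subgroup.mem_inf, Subgroup.mem_centralizer_singleton_iff, and_comm])
    have hmap : K.map π₀ = Subgroup.centralizer ({π₀ y} : Set (C ⧸ O)) := by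
      refine le_antisymm ?_ fun g hg => ?_
      · rintro _ ⟨c, hc, rfl⟩
        rw [Subgroup.mem_centralizer_singleton_iff, ← map_mul, ← map_mul,
          Subgroup.mem_centralizer_singleton_iff.1 hc]
      · obtain ⟨c, rfl⟩ := QuotientGroup.mk'_surjective O g
        have hy2 : orderOf y = 2 := orderOf_eq_prime (by rw [pow_two, h.sd.y_sq])
          fun e => h.sd.y_notMem (e ▸ one_mem _)
        obtain ⟨n, hn, hnc⟩ := Coprime.exists_mul_fixed (A := Subgroup.zpowers y) (N := O) (k := c)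
          (by rw [Subgroup.normalizer_eq_top]; exact le_top)
          (by rw [Nat.card_zpowers, hy2]; exact Nat.coprime_two_left.2 ZStar.Elements.oddCore_odd)
          (Or.inl (Coprime.isSolvable_zpowers y)) (fun a ha => by
            rw [← QuotientGroup.eq_one_iff]
            show π₀ (c⁻¹ * (a * c * a⁻¹)) = 1
            obtain ⟨i, rfl⟩ := Subgroup.mem_zpowers_iff.1 ha
            have hc : Commute (π₀ c) (π₀ y) := Subgroup.mem_centralizer_singleton_iff.1 hg
            rw [map_mul, map_mul, map_mul, map_inv, map_inv, map_zpow, ← (hc.zpow_right i).eq]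
            group)
        refine ⟨c * n, Subgroup.mem_centralizer_singleton_iff.2 ?_, ?_⟩
        · exact (Subgroup.mem_centralizer_iff.1 hnc y (Subgroup.mem_zpowers y)).symm
        · rw [map_mul, show π₀ n = 1 from (QuotientGroup.eq_one_iff n).2 hn, mul_one]
    rw [← card_map_inf_ker π₀ K, hker, hmap, h.card_centralizer_w]
  · -- only `z`
    intro r hr hr2 hrd g hg t ht htg
    rw [natAbs_signedP] at hrd
    by_contra htz
    haveI : Fact r.Prime := ⟨hr⟩
    have hrO : ¬ r ∣ Nat.card (Cfsg.oddCore C) := by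
      rcases hrd with rfl | hrd
      · exact hcop
      · intro hdvd
        have h1 : r ∣ (p - 1) * (p + 1) := by
          rw [← natAbs_signedP_sq p (by omega), ← Int.natCast_dvd]
          rw [show signedP p ^ 2 - 1 = (signedP p + 1) * (signedP p - 1) by ring]
          exact dvd_mul_of_dvd_left hrd _
        exact hr.ne_one (Nat.eq_one_of_dvd_coprimes hcop2 hdvd h1)
    have hz2 : orderOf (σ ^ m) = 2 := h.sd.ext.orderOf_z
    have ht2 : orderOf (π₀ t) = 2 := by
      refine orderOf_eq_prime (by rw [← map_pow, ← ht, pow_orderOf_eq_one, map_one]) fun e => ?_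
      have h1 := Subgroup.orderOf_dvd_natCard _ ((QuotientGroup.eq_one_iff t).1 e)
      rw [ht] at h1
      exact (ZStar.Elements.oddCore_odd (G := C)).not_two_dvd_nat h1
    have htz' : π₀ t ≠ π₀ σ ^ m := by
      rw [← map_pow]
      intro e
      refine htz (inv_mul_eq_one.1 ?_).symm
      have h1 : (σ ^ m)⁻¹ * t ∈ Cfsg.oddCore C := by
        rw [← QuotientGroup.eq_one_iff]
        show π₀ ((σ ^ m)⁻¹ * t) = 1
        rw [map_mul, map_inv, e, inv_mul_cancel]
      refine orderOf_eq_one_iff.1 (Nat.eq_one_of_dvd_coprimes (Nat.coprime_two_left.2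
        (Odd.of_dvd_nat ZStar.Elements.oddCore_odd (Subgroup.orderOf_dvd_natCard _ h1)))
        (orderOf_dvd_of_pow_eq_one ?_) dvd_rfl)
      rw [((h.central t).inv_left).mul_pow, inv_pow, ← hz2, pow_orderOf_eq_one, hz2, ← ht, pow_orderOf_eq_one,
        inv_one, one_mul]
    obtain ⟨c, hc⟩ := h.shape.exists_conj_w ht2 htz'
    have hg1 : π₀ g ≠ 1 := fun e => hrO (hg ▸ Subgroup.orderOf_dvd_natCard _ ((QuotientGroup.eq_one_iff g).1 e))
    have hgo : orderOf (c⁻¹ * π₀ g * c) = r := by
      rw [show c⁻¹ * π₀ g * c = c⁻¹ * π₀ g * c⁻¹⁻¹ by group, orderOf_conj_eq]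
      exact ((Nat.dvd_prime hr).1 (hg ▸ orderOf_map_dvd _ g)).resolve_left fun e => hg1 (orderOf_eq_one_iff.1 e)
    have hmem : c⁻¹ * π₀ g * c ∈ Subgroup.centralizer ({π₀ y} : Set (C ⧸ Cfsg.oddCore C)) := by
      rw [Subgroup.mem_centralizer_singleton_iff]
      have hcomm : π₀ t * π₀ g = π₀ g * π₀ t := by rw [← map_mul, ← map_mul, htg.eq]
      rw [← hc] at hcomm
      calc c⁻¹ * π₀ g * c * π₀ y = c⁻¹ * (π₀ g * (c * π₀ y * c⁻¹)) * c := by group
        _ = c⁻¹ * (c * π₀ y * c⁻¹ * π₀ g) * c := by rw [hcomm]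
        _ = π₀ y * (c⁻¹ * π₀ g * c) := by group
    have hd : r ∣ 2 * (signedP p - 1).natAbs := by
      rw [← h.card_centralizer_w, ← hgo]
      exact Subgroup.orderOf_dvd_natCard _ hmem
    have hd' : (r : ℤ) ∣ signedP p - 1 := Int.natCast_dvd.2
      ((Nat.Coprime.dvd_mul_left ((Nat.coprime_primes hr Nat.prime_two).2 hr2)).1 hd)
    rcases hrd with rfl | hrd
    · have h1 : (r : ℤ) ∣ signedP r := by rw [Int.natCast_dvd, natAbs_signedP]
      have h2 : (r : ℤ) ∣ 1 := by simpa using dvd_sub h1 hd'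
      exact hr.ne_one (Nat.dvd_one.1 (by exact_mod_cast h2))
    · have h2 : (r : ℤ) ∣ 2 := by
        have := dvd_sub hrd hd'
        rwa [show signedP p + 1 - (signedP p - 1) = 2 by ring] at this
      exact hr2 ((Nat.prime_dvd_prime_iff_eq hr Nat.prime_two).1 (by exact_mod_cast h2))
  · -- the centraliser of `x`
    intro h4
    set K := Subgroup.centralizer ({x} : Set C) with hK
    obtain ⟨W, hW⟩ := Sylow.exists_subgroup_card_pow_prime (G := K) 2 (n := 2) h4
    have hWp : IsPGroup 2 (W.map K.subtype) := (IsPGroup.of_card hW).map _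
    have hinj := GWConsumers12.inj_on_two (N := Cfsg.oddCore C) hWp ZStar.Elements.oddCore_odd
    have hle : Nat.card (W.map K.subtype) ≤ 2 := by
      have hsub : Set.range ((π₀).comp (W.map K.subtype).subtype) ⊆ {1, π₀ σ ^ m} := by
        rintro _ ⟨⟨v, hv⟩, rfl⟩
        refine h.shape.two_elem_centralizing hxA hx1 (v := π₀ v) ?_ ?_
        · rw [← MonoidHom.map_zpowers]
          exact (hWp.to_le (Subgroup.zpowers_le.2 hv)).map _
        · obtain ⟨w, -, rfl⟩ := hv
          rw [← map_mul, ← map_mul]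
          exact congrArg _ (Subgroup.mem_centralizer_singleton_iff.1 w.2)
      have h5 := Set.ncard_le_ncard hsub
      rw [← Nat.card_coe_set_eq, Nat.card_range_of_injective hinj] at h5
      exact h5.trans ((Set.ncard_insert_le _ _).trans (by rw [Set.ncard_singleton]))
    rw [Subgroup.card_map_of_injective K.subtype_injective, hW] at hle
    norm_num at hle

end LocalHyp

/-- The local theorem, provided `3 ∤ |O(C)|` when `p = 3`. -/
theorem propLocal_of_three
    (h3 : ∀ (G : Type u) [Group G] [Finite G] (P : Sylow 2 G) (m : ℕ) (σ y : G), SD P m σ y →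
      (∀ H : Subgroup G, H.index ≠ 2) →
      (∀ r : ℕ, r.Prime → r ≠ 2 → ∀ R : Sylow r G, IsCyclic R) →
      Nonempty (commutator (↥(Subgroup.centralizer ({σ ^ m} : Set G)) ⧸
          Cfsg.oddCore ↥(Subgroup.centralizer ({σ ^ m} : Set G))) ≃*
        SpecialLinearGroup (Fin 2) (ZMod 3)) →
      ¬ 3 ∣ Nat.card (Cfsg.oddCore ↥(Subgroup.centralizer ({σ ^ m} : Set G)))) :
    PropLocal.{u} := by
  intro hGW G _ _ P m σ y hsd hidx hcyc hy hσ
  haveI : Fact (Nat.Prime 2) := ⟨Nat.prime_two⟩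
  set C := Subgroup.centralizer ({σ ^ m} : Set G) with hC
  have hPC : (P : Subgroup G) ≤ C := fun v hv =>
    Subgroup.mem_centralizer_singleton_iff.2 (hsd.ext.z_comm hv)
  have hCcyc : CycOdd C := CycOdd.subgroup hcyc C
  obtain ⟨F, i1, i2, hodd, ⟨e⟩, -⟩ := GWConsumers31.commutator_centralizer_quotient hGW P
    (Or.inl hsd.isQuasiDihedral) hidx (σ ^ m) hsd.ext.orderOf_z
  obtain ⟨p, hp, hp2, hiso⟩ := exists_prime_field (hCcyc.quotient _) hodd e
  have hsdC := hsd.subgroupOf hPC
  haveI := hp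
  haveI : (Cfsg.oddCore C).Normal := oddCore_normal'
  have hloc : LocalHyp (P.subtype hPC) m ⟨σ, hσ⟩ ⟨y, hy⟩ p := ⟨hsdC, fun c => Subtype.ext (by
    show σ ^ m * (c : G) = c * σ ^ m
    exact (Subgroup.mem_centralizer_singleton_iff.1 c.2).symm), hp2, @fun _ => hiso⟩
  have hp3 := hloc.shape.p_three_le
  by_cases h5 : 5 ≤ p
  · obtain ⟨eL⟩ := hiso
    set L := commutator (↥C ⧸ Cfsg.oddCore C) with hL
    have hperf : ⁅L, L⁆ = L := by
      have h1 : commutator L = ⊤ := by
        apply Subgroup.map_injective (f := eL.toMonoidHom) eL.injective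
        rw [_root_.commutator_def, Subgroup.map_commutator, Subgroup.map_top_of_surjective _ eL.surjective,
          ← _root_.commutator_def]
        exact Linear.commutator_SL_eq_top le_rfl fun _ => by rw [Nat.card_zmod]; omega
      rw [← Subgroup.map_subtype_commutator, h1, ← MonoidHom.range_eq_map, Subgroup.range_subtype]
    have hnd : ∀ r : ℕ, r.Prime → r ∣ p * ((p - 1) * (p + 1)) → ¬ r ∣ Nat.card (Cfsg.oddCore C) := by
      intro r hr hd hdO
      have hr2 : r ≠ 2 := fun e2 => (ZStar.Elements.oddCore_odd (G := C)).not_two_dvd_nat (e2 ▸ hdO)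
      exact not_dvd_of_perfect hCcyc (Cfsg.oddCore C) L hperf hr hr2
        (by rw [hloc.shape.card_L, mul_assoc]; exact hd) hdO
    exact hloc.localFull (hnd p hp.out (dvd_mul_right _ _))
      (Nat.coprime_of_dvd fun r hr hdO hd => hnd r hr (dvd_mul_of_dvd_right hd _) hdO)
  · obtain rfl : p = 3 := by
      rcases hloc.shape.odd_p with h4 | h4 <;> omega
    refine hloc.localFull (h3 G P m σ y hsd hidx hcyc hiso) ?_
    show Nat.Coprime _ (2 * 4)
    exact (Nat.coprime_two_right.2 ZStar.Elements.oddCore_odd).mul_right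
      ((Nat.coprime_two_right.2 ZStar.Elements.oddCore_odd).pow_right 2)

end Cfsg.Agent.Lib.SDOrder
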