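import Cfsg.Agent.Lib.SDOrder.LocalQuot
import Cfsg.Agent.Lib.Characters.Transitive
import Cfsg.Agent.Lib.Characters.Kernel
import Cfsg.Agent.Lib.Coprime.Glauberman

/-!
# The data of `C`: the element `x`, the character `St`, the sign

`C` acts on the `p + 1` points through `C/O(C)`.
-/

set_option autoImplicit false
set_option linter.style.haveILetI false
set_option linter.unusedSectionVars false

namespace Cfsg.Agent.Lib.SDOrder

open Cfsg.Agent.Lib.SemiQuatDefect.Group
open Matrix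
open scoped MatrixGroups Pointwise

universe u

/-- The signed prime: `p` if `p ≡ 3 (mod 4)`, `-p` if `p ≡ 1`. -/
def signedP (p : ℕ) : ℤ := if p % 4 = 3 then (p : ℤ) else -(p : ℤ)

theorem natAbs_signedP (p : ℕ) : (signedP p).natAbs = p := by
  unfold signedP
  split_ifs <;> simp

namespace LocalHyp

variable {C : Type u} [Group C] [Finite C] {P : Sylow 2 C} {m : ℕ} {σ y : C} {p : ℕ} [hp : Fact p.Prime]
  [(Cfsg.oddCore C).Normal] (h : LocalHyp P m σ y p)

include h

local notation "π₀" => QuotientGroup.mk' (Cfsg.oddCore C)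

local notation "L₀" => commutator (C ⧸ Cfsg.oddCore C)

omit h in
/-- The action of `C` on the points. -/
theorem map_mem_sylow {c : C} (hc : c ∈ (P : Subgroup C)) :
    π₀ c ∈ ((P.mapSurjective (QuotientGroup.mk'_surjective (Cfsg.oddCore C)) : Sylow 2 _) :
      Subgroup (C ⧸ Cfsg.oddCore C)) := Subgroup.mem_map_of_mem _ hc

/-- An element of order `p` and its point. -/
theorem exists_x (hcop : ¬ p ∣ Nat.card (Cfsg.oddCore C)) :
    ∃ (x : C) (A : Pt L₀ p), orderOf x = p ∧ π₀ x ∈ A.1 ∧ π₀ x ≠ 1 := by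
  have hd : p ∣ Nat.card C := by
    rw [h.card_eq]
    exact dvd_mul_of_dvd_left (dvd_mul_of_dvd_right (dvd_mul_of_dvd_left (dvd_mul_right p _) _) _) _
  obtain ⟨x, hx⟩ := exists_prime_orderOf_dvd_card' p hd
  have h1 : π₀ x ≠ 1 := fun e => hcop (hx ▸ Subgroup.orderOf_dvd_natCard _ ((QuotientGroup.eq_one_iff x).1 e))
  have ho : orderOf (π₀ x) = p :=
    ((Nat.dvd_prime hp.out).1 (hx ▸ orderOf_map_dvd _ x)).resolve_left fun e => h1 (orderOf_eq_one_iff.1 e)
  have hL : π₀ x ∈ L₀ := by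
    have hidx : (L₀).index = 2 := h.shape.index_two
    obtain ⟨k, hk⟩ := hp.out.odd_of_ne_two h.odd
    have h2 : π₀ x = (π₀ x * π₀ x) ^ (k + 1) := by
      rw [← pow_two, ← pow_mul, show 2 * (k + 1) = orderOf (π₀ x) + 1 by omega, pow_succ,
        pow_orderOf_eq_one, one_mul]
    rw [h2]
    exact pow_mem ((Subgroup.mul_mem_iff_of_index_two hidx).2 Iff.rfl) _
  exact ⟨x, ⟨Subgroup.zpowers (π₀ x), Subgroup.zpowers_le.2 hL, (Nat.card_zpowers _).trans ho⟩, hx,
    Subgroup.mem_zpowers _, h1⟩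

/-- Powers of `x` are conjugate to it. -/
theorem rational (hcop : ¬ p ∣ Nat.card (Cfsg.oddCore C)) {x : C} (hx : orderOf x = p) {A : Pt L₀ p}
    (hxA : π₀ x ∈ A.1) (i : ℕ) (hi : ¬ p ∣ i) : IsConj x (x ^ i) := by
  obtain ⟨g, hg⟩ := h.shape.exists_conj_pow A hxA hi
  obtain ⟨c, rfl⟩ := QuotientGroup.mk'_surjective (Cfsg.oddCore C) g
  set x' := c * x * c⁻¹ with hx'
  have hπ : π₀ x' = π₀ x ^ i := by rw [hx', map_mul, map_mul, map_inv, hg]
  have hcard : Nat.card (Subgroup.zpowers x) = p := by rw [Nat.card_zpowers, hx]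
  obtain ⟨n, hn, hconj⟩ := Coprime.exists_conj_eq_of_coprime (A := Subgroup.zpowers x)
    (B := Subgroup.zpowers x') (K := Cfsg.oddCore C)
    (by rw [Subgroup.normalizer_eq_top]; exact le_top)
    (by rw [hcard]; exact (hp.out.coprime_iff_not_dvd).2 hcop)
    (Or.inl (Coprime.isSolvable_zpowers x))
    (Subgroup.zpowers_le.2 (by
      have h2 : x' * (x ^ i)⁻¹ ∈ Cfsg.oddCore C := by
        rw [← QuotientGroup.eq_one_iff]
        show π₀ (x' * (x ^ i)⁻¹) = 1
        rw [map_mul, map_inv, map_pow, hπ, mul_inv_cancel]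
      rw [show x' = x' * (x ^ i)⁻¹ * x ^ i by group]
      exact mul_mem (Subgroup.mem_sup_right h2) (Subgroup.mem_sup_left (Subgroup.npow_mem_zpowers x i))))
    (by rw [Nat.card_zpowers, Nat.card_zpowers, hx', ← MulAut.conj_apply, MulEquiv.orderOf_eq])
  have hmem : n⁻¹ * x' * n ∈ Subgroup.zpowers x := by
    obtain ⟨w, hw, e⟩ : x' ∈ (Subgroup.zpowers x).map (MulAut.conj n).toMonoidHom := by
      have h3 : x' ∈ MulAut.conj n • Subgroup.zpowers x := hconj.symm ▸ Subgroup.mem_zpowers x'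
      exact h3
    rw [← e]
    simpa [mul_assoc] using hw
  obtain ⟨j, hj⟩ := Subgroup.mem_zpowers_iff.1 hmem
  have hn1 : π₀ n = 1 := (QuotientGroup.eq_one_iff n).2 hn
  have h4 : π₀ (x ^ j * (x ^ i)⁻¹) = 1 := by
    rw [hj, map_mul, map_mul, map_mul, map_inv, map_inv, map_pow, hn1, hπ]
    group
  have h5 : x ^ j * (x ^ i)⁻¹ = 1 := by
    have hd : orderOf (x ^ j * (x ^ i)⁻¹) ∣ p := hx ▸
      (Nat.card_zpowers x ▸ Subgroup.orderOf_dvd_natCard _
        (mul_mem (Subgroup.zpow_mem_zpowers x j) (inv_mem (Subgroup.npow_mem_zpowers x i))))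
    refine orderOf_eq_one_iff.1 (((Nat.dvd_prime hp.out).1 hd).resolve_right fun e => hcop ?_)
    exact e ▸ Subgroup.orderOf_dvd_natCard _ ((QuotientGroup.eq_one_iff _).1 h4)
  rw [mul_inv_eq_one] at h5
  rw [isConj_iff]
  refine ⟨n⁻¹ * c, ?_⟩
  rw [← h5, hj, hx']
  group

/-- An irreducible character negative on `z` is non-trivial at `x`. -/
theorem x_ker {x : C} {A : Pt L₀ p} (hxA : π₀ x ∈ A.1) (hx1 : π₀ x ≠ 1) (χ : Cfsg.IrrCharacter C)
    (hz : (χ : C → ℂ) (σ ^ m) = -((χ : C → ℂ) 1)) : (χ : C → ℂ) x ≠ (χ : C → ℂ) 1 := by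
  intro hx
  have hχ := Characters.Basic.isCharacter_irr χ
  haveI := Characters.Kernel.charKer_normal hχ
  set N := Characters.Kernel.charKer hχ with hN
  haveI : (N.map π₀).Normal := Subgroup.Normal.map inferInstance _ (QuotientGroup.mk'_surjective _)
  have hle := h.shape.le_of_mem_normal (N := N.map π₀) hxA hx1 (Subgroup.mem_map_of_mem _ hx)
  obtain ⟨n, hn, hne⟩ := hle h.shape.z_mem
  -- `σ ^ m` itself is in the kernel
  set o := n⁻¹ * σ ^ m with ho
  have hoO : o ∈ Cfsg.oddCore C := by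
    rw [← QuotientGroup.eq_one_iff]
    show π₀ o = 1
    rw [ho, map_mul, map_inv, map_pow, hne, inv_mul_cancel]
  obtain ⟨d, hd⟩ := Odd.of_dvd_nat ZStar.Elements.oddCore_odd (Subgroup.orderOf_dvd_natCard _ hoO)
  have hno : n = σ ^ m * o⁻¹ := by
    rw [ho, _root_.mul_inv_rev, inv_inv, ← mul_assoc, mul_inv_cancel, one_mul]
  have h2 : (σ ^ m) ^ (2 * d + 1) = σ ^ m := by
    have hz2 : (σ ^ m) ^ 2 = 1 := by
      rw [← h.sd.ext.orderOf_z, pow_orderOf_eq_one]
    rw [pow_succ, pow_mul, hz2, one_pow, one_mul]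
  have hpow : n ^ (2 * d + 1) = σ ^ m := by
    rw [hno, (h.central o⁻¹).mul_pow, h2, inv_pow, ← hd, pow_orderOf_eq_one, inv_one, mul_one]
  have hzN : (χ : C → ℂ) (σ ^ m) = (χ : C → ℂ) 1 := hpow ▸ pow_mem hn (2 * d + 1)
  refine Characters.Basic.apply_one_ne_zero χ ?_
  have h4 : (χ : C → ℂ) 1 + (χ : C → ℂ) 1 = 0 := by
    nth_rewrite 1 [← hzN]
    rw [hz, neg_add_cancel]
  exact add_self_eq_zero.1 h4

/-- `St`: the number of fixed points minus one. -/
theorem exists_St {x : C} {A : Pt L₀ p} (hxA : π₀ x ∈ A.1) (hx1 : π₀ x ≠ 1) :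
    ∃ St : Cfsg.IrrCharacter C, (St : C → ℂ) 1 = (p : ℂ) ∧ (St : C → ℂ) (σ ^ m) = (p : ℂ) ∧
      (St : C → ℂ) x = 0 ∧
      (∀ v ∈ Subgroup.zpowers σ, v * v ≠ 1 → ∀ k : C, Commute v k → Odd (orderOf k) →
        (St : C → ℂ) (v * k) = -(((signedP p).sign : ℤ) : ℂ)) ∧
      (St : C → ℂ) y = (((signedP p).sign : ℤ) : ℂ) := by
  classical
  letI : MulAction C (Pt L₀ p) := MulAction.compHom _ π₀
  have hsmul : ∀ (c : C) (U : Pt L₀ p), c • U = π₀ c • U := fun _ _ => rfl
  have h3 := h.shape.p_three_le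
  haveI := h.shape.pretransitive
  haveI : MulAction.IsPretransitive C (Pt L₀ p) := ⟨fun U V => by
    obtain ⟨g, hg⟩ := MulAction.exists_smul_eq (C ⧸ Cfsg.oddCore C) U V
    obtain ⟨c, rfl⟩ := QuotientGroup.mk'_surjective (Cfsg.oddCore C) g
    exact ⟨c, hg⟩⟩
  have h2 : MulAction.IsMultiplyPretransitive C (Pt L₀ p) 2 := by
    rw [MulAction.is_two_pretransitive_iff]
    intro a b a' b' hab hab'
    obtain ⟨g, hga, hgb⟩ := MulAction.is_two_pretransitive_iff.1 h.shape.two_pretransitive hab hab'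
    obtain ⟨c, rfl⟩ := QuotientGroup.mk'_surjective (Cfsg.oddCore C) g
    exact ⟨c, hga, hgb⟩
  have hirr := (Characters.Transitive.isIrrCharacter_iff (G := C) (Pt L₀ p)
    (by rw [h.shape.card_pt]; omega)).2 h2
  have hval : ∀ (c : C) (n : ℕ), Set.ncard {U : Pt L₀ p | π₀ c • U = U} = n →
      Characters.Transitive.permChar (Pt L₀ p) c - 1 = (n : ℂ) - 1 := fun c n hn => by
    rw [← hn, ← Nat.card_coe_set_eq]
    rfl
  have hall : ∀ c : C, (∀ U : Pt L₀ p, π₀ c • U = U) →
      Characters.Transitive.permChar (Pt L₀ p) c - 1 = (p : ℂ) := fun c hc => by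
    rw [hval c (p + 1) (by
      rw [show {U : Pt L₀ p | π₀ c • U = U} = Set.univ from Set.eq_univ_of_forall hc, Set.ncard_univ,
        h.shape.card_pt])]
    push_cast
    ring
  refine ⟨⟨_, hirr⟩, hall 1 (fun U => by rw [map_one, one_smul]), hall _ (fun U => by
    rw [map_pow]; exact h.shape.smul_z U), ?_, ?_, ?_⟩
  · show Characters.Transitive.permChar (Pt L₀ p) x - 1 = 0
    rw [hval x 1 ?_, Nat.cast_one, sub_self]
    rw [Set.ncard_eq_one]
    refine ⟨A, Set.eq_singleton_iff_unique_mem.2 ⟨?_, fun U hU => h.shape.eq_of_fix hxA hx1 hU⟩⟩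
    exact smul_eq_iff.2 (Subgroup.le_normalizer hxA)
  · intro v hv hv2 k hvk hk
    show Characters.Transitive.permChar (Pt L₀ p) (v * k) - 1 = _
    set s := π₀ σ with hs
    have hvs : π₀ v ∈ Subgroup.zpowers s := by
      rw [hs, ← MonoidHom.map_zpowers]
      exact Subgroup.mem_map_of_mem _ hv
    have hv1 : π₀ v ≠ 1 := fun e => hv2 (by
      rw [h.injOn (h.sd.ext.zpowers_le hv) (one_mem _) (e.trans (map_one _).symm), one_mul])
    have hvz : π₀ v ≠ s ^ m := fun e => hv2 (by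
      rw [hs, ← map_pow] at e
      rw [h.injOn (h.sd.ext.zpowers_le hv) h.sd.ext.z_mem e, ← pow_two, ← h.sd.ext.orderOf_z,
        pow_orderOf_eq_one])
    -- powers of `v k`
    have hsub : ∀ U : Pt L₀ p, π₀ (v * k) • U = U → π₀ v • U = U ∧ π₀ k • U = U := by
      intro U hU
      obtain ⟨d, hd⟩ := hk
      obtain ⟨j, hj⟩ := P.2 ⟨v, h.sd.ext.zpowers_le hv⟩
      have hv2j : v ^ 2 ^ j = 1 := congrArg Subtype.val hj
      have hco : Nat.Coprime (2 * d + 1) (2 ^ j) := ((Nat.coprime_two_right).2 ⟨d, rfl⟩).pow_right j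
      have hvd : (π₀ v) ^ (2 * d + 1) • U = U := by
        have h7 : (π₀ (v * k)) ^ (2 * d + 1) • U = U :=
          MulAction.mem_stabilizer_iff.1 (pow_mem (MulAction.mem_stabilizer_iff.2 hU) _)
        rwa [← map_pow, hvk.mul_pow, ← hd, pow_orderOf_eq_one, mul_one, hd, map_pow] at h7
      have hgen : π₀ v ∈ Subgroup.zpowers ((π₀ v) ^ (2 * d + 1)) := by
        have h8 : orderOf (π₀ v) ∣ 2 ^ j := orderOf_dvd_of_pow_eq_one (by rw [← map_pow, hv2j, map_one])
        obtain ⟨e, he⟩ := exists_pow_eq_self_of_coprime (x := π₀ v) (hco.coprime_dvd_right h8)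
        exact Subgroup.mem_zpowers_iff.2 ⟨(e : ℤ), by rw [zpow_natCast]; exact he⟩
      have hvU : π₀ v • U = U := MulAction.mem_stabilizer_iff.1
        ((Subgroup.zpowers_le.2 (MulAction.mem_stabilizer_iff.2 hvd)) hgen)
      refine ⟨hvU, ?_⟩
      rw [map_mul, ((hvk.map π₀)).eq, mul_smul, hvU] at hU
      exact hU
    rcases h.shape.odd_p with h4 | h4
    · -- two fixed points
      obtain ⟨A', B', hBA, -, -, hrot⟩ := h.shape.rot_fix_one h4
      have hfix := hrot _ hvs hv1 hvz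
      have hk2 : ∀ U, (U = A' ∨ U = B') → π₀ k • U = U := by
        intro U hU
        have hperm : ∀ W, (W = A' ∨ W = B') → π₀ k • W = A' ∨ π₀ k • W = B' := fun W hW => by
          refine (hfix _).1 ?_
          rw [← mul_smul, (hvk.map π₀).eq, mul_smul, (hfix W).2 hW]
        have h9 : (π₀ k * π₀ k) • U = U := by
          have hinj := smul_left_cancel (π₀ k) (x := A') (y := B')
          rw [mul_smul]
          rcases hperm A' (Or.inl rfl) with eA | eA <;> rcases hperm B' (Or.inr rfl) with eB | eB <;>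
            rcases hU with rfl | rfl <;>
            first
              | (exfalso; exact hBA (hinj (eA.trans eB.symm)).symm)
              | (rw [eA, eA]) | (rw [eB, eB]) | (rw [eA, eB]) | (rw [eB, eA])
        obtain ⟨d, hd⟩ := hk
        have h10 : π₀ k = (π₀ k * π₀ k) ^ (d + 1) := by
          rw [← pow_two, ← pow_mul, ← map_pow]
          exact congrArg _ (by rw [show 2 * (d + 1) = orderOf k + 1 by omega, pow_succ, pow_orderOf_eq_one, one_mul])
        rw [h10]
        exact MulAction.mem_stabilizer_iff.1 (pow_mem (MulAction.mem_stabilizer_iff.2 h9) _)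
      rw [hval (v * k) 2 ?_]
      · simp only [signedP, show ¬ p % 4 = 3 by omega, if_false, Int.sign_neg,
          Int.sign_natCast_of_ne_zero (show p ≠ 0 by omega)]
        push_cast
        ring
      rw [show {U : Pt L₀ p | π₀ (v * k) • U = U} = {A', B'} from ?_, Set.ncard_pair hBA.symm]
      ext U
      constructor
      · intro hU
        exact (hfix U).1 (hsub U hU).1
      · intro hU
        show π₀ (v * k) • U = U
        rw [map_mul, mul_smul, hk2 U hU, (hfix U).2 hU]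
    · rw [hval (v * k) 0 ?_]
      · simp only [signedP, h4, if_true, Int.sign_natCast_of_ne_zero (show p ≠ 0 by omega)]
        push_cast
        ring
      rw [Set.ncard_eq_zero]
      exact Set.eq_empty_of_forall_notMem fun U hU => h.shape.rot_fix_three h4 hvs hv1 hvz U (hsub U hU).1
  · show Characters.Transitive.permChar (Pt L₀ p) y - 1 = _
    rcases h.shape.odd_p with h4 | h4
    · rw [hval y 0 ?_]
      · simp only [signedP, show ¬ p % 4 = 3 by omega, if_false, Int.sign_neg,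
          Int.sign_natCast_of_ne_zero (show p ≠ 0 by omega)]
        push_cast
        ring
      rw [Set.ncard_eq_zero]
      exact Set.eq_empty_of_forall_notMem fun U hU => h.shape.w_fix_one h4 U hU
    · rw [hval y 2 ?_]
      · simp only [signedP, h4, if_true, Int.sign_natCast_of_ne_zero (show p ≠ 0 by omega)]
        push_cast
        ring
      obtain ⟨A', hA'⟩ := h.shape.w_fix_three h4
      obtain ⟨B', hBA, hB', hall'⟩ := h.shape.fix_two h.shape.w_ne.1 h.shape.w_ne.2
        (h.shape.isPGroup_of_mem (map_mem_sylow h.sd.y_mem)) hA'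
      rw [show {U : Pt L₀ p | π₀ y • U = U} = {A', B'} from ?_, Set.ncard_pair hBA.symm]
      ext U
      constructor
      · exact hall' U
      · rintro (rfl | rfl)
        exacts [hA', hB']

/-- The linear character of order two. -/
theorem exists_sgn {x : C} {A : Pt L₀ p} (hxA : π₀ x ∈ A.1) :
    ∃ f : C →* ℂ, f σ = -1 ∧ f y = -1 ∧ f x = 1 ∧ ∀ c, f c = 1 ∨ f c = -1 := by
  classical
  have hidx : (L₀).index = 2 := h.shape.index_two
  let f : C →* ℂ :=
    { toFun := fun c => if π₀ c ∈ L₀ then 1 else -1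
      map_one' := if_pos (by rw [map_one]; exact one_mem _)
      map_mul' := fun a b => by
        simp only [map_mul, Subgroup.mul_mem_iff_of_index_two hidx]
        by_cases ha : (a : C ⧸ Cfsg.oddCore C) ∈ L₀ <;> by_cases hb : (b : C ⧸ Cfsg.oddCore C) ∈ L₀ <;>
          simp [ha, hb] }
  refine ⟨f, if_neg h.shape.s_notMem_L, if_neg h.shape.w_notMem_L, if_pos (A.2.1 hxA), fun c => ?_⟩
  by_cases hc : π₀ c ∈ L₀
  · exact Or.inl (if_pos hc)
  · exact Or.inr (if_neg hc)

end LocalHyp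

end Cfsg.Agent.Lib.SDOrder
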