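import Cfsg.Agent.Lib.SDOrder.Rot
import Cfsg.Agent.Lib.SemiQuatDefect.Chars
import Cfsg.Agent.Lib.SemiQuatDefect.Lattice

/-!
# Multiplicities on the rotations and the lattice of the principal block

`mu S j χ` is the inner product of `eta j` with the restriction of `χ` to the Sylow subgroup.  The
differences `wI i = mu 0 - mu (2 i)` and `vI i = mu 1 - mu (4 i + 1)` satisfy the hypotheses of
`SemiQuatDefect.Lattice.Data` on the principal block and are orthogonal to every column outside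
the sections of the rotations of order at least four.
-/

set_option autoImplicit false
set_option linter.unusedSectionVars false
set_option linter.style.haveILetI false

namespace Cfsg.Agent.Lib.SDOrder

open Subgroup Cfsg.Agent.Lib.SemiQuatDefect.Group Cfsg.Agent.Lib.SemiQuatDefect.Chars
open Cfsg.Agent.Lib.Characters.Basic Cfsg.Agent.Lib.Induced.Basic
open scoped ComplexConjugate

universe u

variable {G : Type u} [Group G] [Finite G]

/-- The principal block as a finite set. -/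
noncomputable def pb (M : Ideal Cfsg.AlgInt) (G : Type u) [Group G] [Finite G] :
    Finset (Cfsg.IrrCharacter G) :=
  (Set.toFinite (Cfsg.principalBlock M G)).toFinset

theorem mem_pb {M : Ideal Cfsg.AlgInt} {χ : Cfsg.IrrCharacter G} :
    χ ∈ pb M G ↔ χ ∈ Cfsg.principalBlock M G :=
  Set.Finite.mem_toFinset _

theorem sum_pb {M : Ideal Cfsg.AlgInt} {A : Type*} [AddCommMonoid A]
    (f : Cfsg.IrrCharacter G → A) :
    ∑ χ ∈ pb M G, f χ = ∑ᶠ χ ∈ Cfsg.principalBlock M G, f χ :=
  (finsum_mem_eq_finite_toFinset_sum _ _).symm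

theorem oneChar_mem_pb {M : Ideal Cfsg.AlgInt} (hM : Cfsg.IsPModular 2 M) :
    oneChar G ∈ pb M G := by
  haveI := hM.2.1
  exact mem_pb.2 Cfsg.Agent.Lib.Blocks.oneChar_mem_principalBlock

/-- The degree as an integer. -/
noncomputable def dg (χ : Cfsg.IrrCharacter G) : ℤ := (Cfsg.charDegree (χ : G → ℂ) : ℤ)

theorem dg_cast (χ : Cfsg.IrrCharacter G) : (dg χ : ℂ) = (χ : G → ℂ) 1 := by
  rw [(H80.ClassMult.deg_spec χ).2, dg]
  norm_num

theorem dg_pos (χ : Cfsg.IrrCharacter G) : 0 < dg χ := by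
  have := (H80.ClassMult.deg_spec χ).1
  rw [dg]
  omega

variable {P : Sylow 2 G} {m : ℕ} {σ y : G} (S : SD P m σ y)

noncomputable local instance instFintypeSyl : Fintype (P : Subgroup G) := Fintype.ofFinite _

/-- The generator of the rotations in the Sylow subgroup. -/
def sE (S : SD P m σ y) : (P : Subgroup G) := ⟨σ, S.ext.mem⟩

include S in
theorem extE : Ext (⊤ : Subgroup (P : Subgroup G)) m (sE S) (m - 1) := by
  have h := Ext.comap (P : Subgroup G).subtype (Subgroup.subtype_injective _) (x' := sE S) S.ext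
    (by rw [Subgroup.range_subtype])
  have e : (P : Subgroup G).comap (P : Subgroup G).subtype = ⊤ := by
    ext u
    simp
  rwa [e] at h

/-- The inner product with the restriction to the Sylow subgroup. -/
noncomputable def ip (α : ↥(P : Subgroup G) → ℂ) (χ : Cfsg.IrrCharacter G) : ℂ :=
  Cfsg.classInner α fun u : (P : Subgroup G) => (χ : G → ℂ) (u : G)

include S in
theorem exists_mu (j : ℕ) (χ : Cfsg.IrrCharacter G) :
    ∃ n : ℤ, (n : ℂ) = ip (eta (extE S) j) χ := by
  obtain ⟨n, hn⟩ := exists_classInner_nat (isCharacter_eta (extE S) j)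
    (isCharacter_comp (P : Subgroup G).subtype (isCharacter_irr χ))
  exact ⟨n, by rw [Int.cast_natCast]; exact hn.symm⟩

/-- The multiplicities. -/
noncomputable def mu (S : SD P m σ y) (j : ℕ) (χ : Cfsg.IrrCharacter G) : ℤ :=
  (exists_mu S j χ).choose

theorem mu_cast (j : ℕ) (χ : Cfsg.IrrCharacter G) : (mu S j χ : ℂ) = ip (eta (extE S) j) χ :=
  (exists_mu S j χ).choose_spec

/-- The even differences. -/
noncomputable def wI (S : SD P m σ y) (i : ℕ) (χ : Cfsg.IrrCharacter G) : ℤ :=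
  mu S 0 χ - mu S (2 * i) χ

/-- The odd differences. -/
noncomputable def vI (S : SD P m σ y) (i : ℕ) (χ : Cfsg.IrrCharacter G) : ℤ :=
  mu S 1 χ - mu S (4 * i + 1) χ

theorem ip_sub (α β : ↥(P : Subgroup G) → ℂ) (χ : Cfsg.IrrCharacter G) :
    ip (α - β) χ = ip α χ - ip β χ :=
  classInner_sub_left α β _

theorem wI_cast (i : ℕ) (χ : Cfsg.IrrCharacter G) :
    (wI S i χ : ℂ) = ip (wf (extE S) i) χ := by
  rw [wI, Int.cast_sub, mu_cast, mu_cast, wf, ip_sub]

theorem vI_cast (i : ℕ) (χ : Cfsg.IrrCharacter G) :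
    (vI S i χ : ℂ) = ip (vf (extE S) i) χ := by
  rw [vI, Int.cast_sub, mu_cast, mu_cast, vf, ip_sub]

include S in
theorem card_syl : (Nat.card (P : Subgroup G) : ℂ) = (4 * m : ℕ) := by rw [S.ext.card]

/-- Where a function supported on the rotations of order at least four lives. -/
theorem exists_pow_of_ne {α : ↥(P : Subgroup G) → ℂ} (hα : Van α m (sE S)) {u : (P : Subgroup G)}
    (hu : α u ≠ 0) : ∃ k, ¬ m ∣ k ∧ σ ^ k = (u : G) ∧ sE S ^ k = u := by
  have h1 : u ∈ zpowers (sE S) := by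
    by_contra hn
    exact hu (hα.out u hn)
  obtain ⟨k, -, rfl⟩ := (extE S).exists_pow h1
  refine ⟨k, fun hd => ?_, by simp [sE], rfl⟩
  rcases (extE S).pow_mem_zm hd with e | e
  · exact hu (by rw [e]; exact hα.one)
  · exact hu (by rw [e]; exact hα.z)

variable (M : Ideal Cfsg.AlgInt) (hM : Cfsg.IsPModular 2 M)
include hM

/-- Orthogonality to a column outside the sections of the rotations. -/
theorem sum_ip_apply {α : ↥(P : Subgroup G) → ℂ} (hα : Van α m (sE S)) {g a : G}
    (hg : Cfsg.IsPPart 2 g a) (hne : ∀ k, ¬ m ∣ k → ¬ IsConj (σ ^ k) a) :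
    ∑ χ ∈ pb M G, ip α χ * (χ : G → ℂ) g = 0 := by
  haveI := hM.2.1
  simp only [ip, Cfsg.classInner, Finset.mul_sum, Finset.sum_mul]
  rw [Finset.sum_comm]
  refine Finset.sum_eq_zero fun u _ => ?_
  by_cases hu : α u = 0
  · simp [hu]
  obtain ⟨k, hk, hku, -⟩ := exists_pow_of_ne S hα hu
  have hz := Cfsg.Agent.Lib.Blocks.sum_block_eq_zero hM hg
    (Cfsg.Agent.Lib.Blocks.isPPart_self Nat.prime_two (S.isPow u.2))
    (fun h => hne k hk (hku ▸ h.symm)) Cfsg.Agent.Lib.Blocks.isPBlock_principalBlock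
  rw [← sum_pb] at hz
  calc _ = (Nat.card (P : Subgroup G) : ℂ)⁻¹ * α u *
        ∑ χ ∈ pb M G, (χ : G → ℂ) g * (χ : G → ℂ) (u : G)⁻¹ := by
        rw [Finset.mul_sum]
        refine Finset.sum_congr rfl fun χ _ => ?_
        rw [apply_inv (isCharacter_irr χ)]
        ring
    _ = 0 := by rw [hz, mul_zero]

/-- The Gram matrix. -/
theorem sum_ip_mul {α β : ↥(P : Subgroup G) → ℂ} (hα : Van α m (sE S)) (hβ : Van β m (sE S))
    (hβc : Cfsg.IsClassFunction (P : Subgroup G) β) :
    ∑ χ ∈ pb M G, ip α χ * conj (ip β χ) = Cfsg.classInner α β := by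
  classical
  haveI := hM.2.1
  set N : ℂ := (Nat.card (P : Subgroup G) : ℂ) with hN
  have hN0 : N ≠ 0 := Nat.cast_ne_zero.2 Nat.card_pos.ne'
  have hNc : conj N = N := by rw [hN, map_natCast]
  have hexp : ∀ χ : Cfsg.IrrCharacter G, ip α χ * conj (ip β χ) =
      ∑ u : (P : Subgroup G), ∑ v : (P : Subgroup G), N⁻¹ * N⁻¹ * α u * conj (β v) *
        ((χ : G → ℂ) (v : G) * conj ((χ : G → ℂ) (u : G))) := fun χ => by
    simp only [ip, Cfsg.classInner, map_mul, map_sum, map_inv₀, Complex.conj_conj,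
      Finset.mul_sum, Finset.sum_mul, ← hN, hNc]
    rw [Finset.sum_comm]
    exact Finset.sum_congr rfl fun u _ => Finset.sum_congr rfl fun v _ => by ring
  simp only [hexp]
  rw [Finset.sum_comm, Cfsg.classInner, ← hN, Finset.mul_sum]
  refine Finset.sum_congr rfl fun u _ => ?_
  by_cases hu : α u = 0
  · simp [hu]
  obtain ⟨k, hk, hku, hku'⟩ := exists_pow_of_ne S hα hu
  rw [Finset.sum_comm]
  simp only [← Finset.mul_sum]
  have hcol : ∀ v : (P : Subgroup G), conj (β v) *
      ∑ χ ∈ pb M G, (χ : G → ℂ) (v : G) * conj ((χ : G → ℂ) (u : G)) =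
      conj (β v) * (if v = sE S ^ k ∨ v = sE S ^ ((m - 1) * k) then ((2 * m : ℕ) : ℂ) else 0) := by
    intro v
    by_cases hv : β v = 0
    · simp [hv]
    obtain ⟨l, -, hlv, -⟩ := exists_pow_of_ne S hβ hv
    congr 1
    have h := congrArg conj (S.sum_rot M hM hk (w := (v : G)) (hlv ▸ npow_mem_zpowers σ l))
    rw [← sum_pb, map_sum] at h
    simp only [map_mul, Complex.conj_conj, apply_ite conj, map_natCast, map_zero, hku,
      mul_comm (conj _)] at h
    rw [h]
    refine if_congr ?_ rfl rfl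
    simp only [Subtype.ext_iff, Subgroup.coe_pow, sE, hku]
  calc ∑ v : (P : Subgroup G), N⁻¹ * N⁻¹ * α u * conj (β v) *
        ∑ χ ∈ pb M G, (χ : G → ℂ) (v : G) * conj ((χ : G → ℂ) (u : G)) =
      N⁻¹ * N⁻¹ * α u * ∑ v : (P : Subgroup G), conj (β v) *
        (if v = sE S ^ k ∨ v = sE S ^ ((m - 1) * k) then ((2 * m : ℕ) : ℂ) else 0) := by
        rw [Finset.mul_sum]
        exact Finset.sum_congr rfl fun v _ => by rw [← hcol v]; ring
    _ = _ := by
      have hne : sE S ^ k ≠ sE S ^ ((m - 1) * k) := fun e =>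
        hk ((extE S).fix_iff.1 ((extE S).pow_eq_pow.1 e.symm))
      have hβt : β (sE S ^ ((m - 1) * k)) = β (sE S ^ k) := by
        rw [← (extE S).conj_pow' (v := ⟨y, S.y_mem⟩) (Subgroup.mem_top _) (fun h => S.y_notMem (by
          obtain ⟨a, ha⟩ := mem_zpowers_iff.1 h
          exact mem_zpowers_iff.2 ⟨a, by simpa [sE] using congrArg Subtype.val ha⟩))]
        exact (classFunction_apply_of_isConj hβc
          (isConj_iff.2 ⟨(⟨y, S.y_mem⟩ : (P : Subgroup G)), rfl⟩)).symm
      rw [Fintype.sum_eq_add _ _ hne (fun v hv => by rw [if_neg (not_or.2 hv), mul_zero]),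
        if_pos (Or.inl rfl), if_pos (Or.inr rfl), hβt, hku']
      have h2 : ((2 * m : ℕ) : ℂ) * 2 = N := by
        rw [hN, card_syl S]; push_cast; ring
      field_simp
      linear_combination conj (β u) * h2

theorem sum_wI_apply (i : ℕ) {g a : G} (hg : Cfsg.IsPPart 2 g a)
    (hne : ∀ k, ¬ m ∣ k → ¬ IsConj (σ ^ k) a) :
    ∑ χ ∈ pb M G, (wI S i χ : ℂ) * (χ : G → ℂ) g = 0 := by
  simp only [wI_cast]
  exact sum_ip_apply S M hM (van_wf (extE S) i) hg hne

theorem sum_vI_apply (i : ℕ) {g a : G} (hg : Cfsg.IsPPart 2 g a)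
    (hne : ∀ k, ¬ m ∣ k → ¬ IsConj (σ ^ k) a) :
    ∑ χ ∈ pb M G, (vI S i χ : ℂ) * (χ : G → ℂ) g = 0 := by
  simp only [vI_cast]
  exact sum_ip_apply S M hM (van_vf (extE S) i) hg hne

omit hM in
include S in
/-- `1` is not conjugate to a rotation of order at least four. -/
theorem not_isConj_one (k : ℕ) (hk : ¬ m ∣ k) : ¬ IsConj (σ ^ k) (1 : G) := fun h =>
  (S.rot4_iff_dvd k).2 hk (by rw [isConj_one_left.1 h, one_mul])

theorem isGen_class {α : ↥(P : Subgroup G) → ℂ}
    (h : Cfsg.IsGeneralizedCharacter (P : Subgroup G) α) :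
    Cfsg.IsClassFunction (P : Subgroup G) α := by
  obtain ⟨χ, ψ, hχ, hψ, rfl⟩ := h
  intro a b
  simp only [Pi.sub_apply]
  rw [isClassFunction_of_isCharacter hχ a b, isClassFunction_of_isCharacter hψ a b]

theorem inner_wI {i j : ℕ} (hi : 1 ≤ i) (hi' : i ≤ m / 2) (hj : 1 ≤ j) (hj' : j ≤ m / 2) :
    ∑ χ ∈ pb M G, wI S i χ * wI S j χ =
      2 + if i = j then (if i = m / 2 then 2 else 1) else 0 := by
  apply Int.cast_injective (α := ℂ)
  push_cast
  have h := sum_ip_mul S M hM (van_wf (extE S) i) (van_wf (extE S) j)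
    (isGen_class M hM (isGeneralized_wf (extE S) j))
  rw [classInner_wf (extE S) hi hi' hj hj'] at h
  rw [← h]
  exact Finset.sum_congr rfl fun χ _ => by rw [← wI_cast, ← wI_cast, map_intCast]

theorem inner_vI {i j : ℕ} (hi : 1 ≤ i) (hi' : i < m / 2) (hj : 1 ≤ j) (hj' : j < m / 2) :
    ∑ χ ∈ pb M G, vI S i χ * vI S j χ = 1 + if i = j then 1 else 0 := by
  apply Int.cast_injective (α := ℂ)
  push_cast
  have h := sum_ip_mul S M hM (van_vf (extE S) i) (van_vf (extE S) j)
    (isGen_class M hM (isGeneralized_vf (extE S) j))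
  rw [classInner_vf (extE S) hi hi' hj hj'] at h
  rw [← h]
  exact Finset.sum_congr rfl fun χ _ => by rw [← vI_cast, ← vI_cast, map_intCast]

theorem inner_wI_vI (i j : ℕ) : ∑ χ ∈ pb M G, wI S i χ * vI S j χ = 0 := by
  apply Int.cast_injective (α := ℂ)
  push_cast
  have h := sum_ip_mul S M hM (van_wf (extE S) i) (van_vf (extE S) j)
    (isGen_class M hM (isGeneralized_vf (extE S) j))
  rw [classInner_wf_vf (extE S) i j] at h
  rw [← h]
  exact Finset.sum_congr rfl fun χ _ => by rw [← wI_cast, ← vI_cast, map_intCast]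

omit hM

/-- The multiplicity when the rotations act by a scalar character fixed by `t`. -/
theorem mu_of_linear {χ : Cfsg.IrrCharacter G} {a : ℕ} (ha : m ∣ a)
    (hχ : ∀ k : ℕ, (χ : G → ℂ) (σ ^ k) = (eps m ^ k) ^ a) (j : ℕ) :
    mu S j χ = if j ≡ a [MOD 2 * m] then 1 else 0 := by
  apply Int.cast_injective (α := ℂ)
  rw [mu_cast, ip, Cfsg.classInner,
    sum_eq_range (extE S) fun u hu => by rw [eta_of_notMem (extE S) j hu, zero_mul]]
  have e : ∀ k : ℕ, eta (extE S) j (sE S ^ k) *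
      conj ((χ : G → ℂ) ((sE S ^ k : (P : Subgroup G)) : G)) =
      (eps m ^ k) ^ ((j : ℤ) - a) + (eps m ^ k) ^ ((((m - 1) * j : ℕ) : ℤ) - a) := fun k => by
    have hw : eps m ^ k ≠ 0 := pow_ne_zero _ (eps_ne_zero (extE S))
    rw [Subgroup.coe_pow, show ((sE S : (P : Subgroup G)) : G) = σ from rfl, hχ, eta_pow,
      map_pow, conj_eps_pow (extE S)]
    have e1 : (eps m ^ ((m - 1) * k)) ^ j = (eps m ^ k) ^ ((m - 1) * j) := by
      rw [← pow_mul, ← pow_mul]; ring_nf
    rw [e1]
    generalize eps m ^ k = w at hw ⊢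
    rw [zpow_sub₀ hw, zpow_sub₀ hw, zpow_natCast, zpow_natCast, zpow_natCast, inv_pow]
    field_simp
  simp only [e, Finset.sum_add_distrib, sum_zpow (extE S)]
  have hd : ∀ p q : ℕ, (((2 * m : ℕ) : ℤ) ∣ (p : ℤ) - q) ↔ p ≡ q [MOD 2 * m] := fun p q => by
    rw [Nat.ModEq.comm, Nat.modEq_iff_dvd]
  have ht : (m - 1) * j ≡ a [MOD 2 * m] ↔ j ≡ a [MOD 2 * m] := by
    constructor
    · intro h
      have h1 := (h.mul_left (m - 1)).trans ((extE S).fix_iff.2 ha)
      rw [← mul_assoc] at h1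
      simpa using ((extE S).t_sq.mul_right j).symm.trans h1
    · exact fun h => (h.mul_left _).trans ((extE S).fix_iff.2 ha)
  simp only [hd, ht, card_syl S]
  have hm : (m : ℂ) ≠ 0 := Nat.cast_ne_zero.2 S.pos.ne'
  split_ifs <;> push_cast <;> field_simp <;> ring

theorem mu_one (j : ℕ) : mu S j (oneChar G) = if j ≡ 0 [MOD 2 * m] then 1 else 0 :=
  mu_of_linear S (dvd_zero m) (fun k => by rw [oneChar_apply, pow_zero]) j

theorem wI_one {i : ℕ} (hi : 1 ≤ i) (hi' : i ≤ m / 2) : wI S i (oneChar G) = 1 := by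
  have := S.four_le
  rw [wI, mu_one S, mu_one S, if_pos (Nat.ModEq.refl 0), if_neg, sub_zero]
  intro h
  rw [Nat.modEq_zero_iff_dvd] at h
  have := Nat.le_of_dvd (by omega) h
  omega

theorem vI_one {i : ℕ} (hi : i < m / 2) : vI S i (oneChar G) = 0 := by
  have := S.four_le
  rw [vI, mu_one S, mu_one S, if_neg, if_neg, sub_zero] <;> intro h <;>
    rw [Nat.modEq_zero_iff_dvd] at h <;> have := Nat.le_of_dvd (by omega) h <;> omega

include hM

/-- The lattice of the principal block. -/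
theorem data : Cfsg.Agent.Lib.SemiQuatDefect.Lattice.Data (m / 2)
    (fun i (χ : ↥(pb M G)) => wI S i χ.1) (fun i (χ : ↥(pb M G)) => vI S i χ.1)
    (fun χ : ↥(pb M G) => dg χ.1) where
  one_le := (extE S).half_pos
  pow := (extE S).pow_half
  ww i j hi hi' hj hj' := by
    rw [Finset.sum_coe_sort (pb M G) fun χ => wI S i χ * wI S j χ]
    exact inner_wI S M hM hi hi' hj hj'
  vv i j hi hi' hj hj' := by
    rw [Finset.sum_coe_sort (pb M G) fun χ => vI S i χ * vI S j χ]
    exact inner_vI S M hM hi hi' hj hj'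
  wv i j hi hi' hj hj' := by
    rw [Finset.sum_coe_sort (pb M G) fun χ => wI S i χ * vI S j χ]
    exact inner_wI_vI S M hM i j
  dv j hj hj' := by
    rw [Finset.sum_coe_sort (pb M G) fun χ => vI S j χ * dg χ]
    apply Int.cast_injective (α := ℂ)
    push_cast
    simp only [dg_cast]
    exact sum_vI_apply S M hM j (Cfsg.Agent.Lib.Blocks.isPPart_one_of_regular (by simp))
      (not_isConj_one S)
  d_pos χ := dg_pos χ.1
  exists_odd := ⟨⟨oneChar G, oneChar_mem_pb hM⟩, by
    show Odd (wI S (m / 2) (oneChar G))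
    rw [wI_one S (extE S).half_pos le_rfl]
    exact odd_one⟩

omit hM

/-- Sums over the residues as even and odd parts. -/
theorem sum_range_two_mul {A : Type*} [AddCommMonoid A] (f : ℕ → A) (n : ℕ) :
    ∑ j ∈ Finset.range (2 * n), f j =
      ∑ a ∈ Finset.range n, f (2 * a) + ∑ a ∈ Finset.range n, f (2 * a + 1) := by
  induction n with
  | zero => simp
  | succ n ih =>
    rw [show 2 * (n + 1) = 2 * n + 1 + 1 by ring, Finset.sum_range_succ, Finset.sum_range_succ, ih,
      Finset.sum_range_succ, Finset.sum_range_succ]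
    abel

theorem mu_congr {i j : ℕ} (h : i ≡ j [MOD 2 * m] ∨ (m - 1) * i ≡ j [MOD 2 * m])
    (χ : Cfsg.IrrCharacter G) : mu S i χ = mu S j χ := by
  apply Int.cast_injective (α := ℂ)
  rw [mu_cast, mu_cast, eta_congr (extE S) h]

/-- The inner sum of the even indices. -/
noncomputable def sumEv (S : SD P m σ y) (χ : Cfsg.IrrCharacter G) : ℤ :=
  ∑ i ∈ Finset.Ico 1 (m / 2), mu S (2 * i) χ

/-- The inner sum of the odd indices. -/
noncomputable def sumOd (S : SD P m σ y) (χ : Cfsg.IrrCharacter G) : ℤ :=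
  ∑ i ∈ Finset.range (m / 2), mu S (4 * i + 1) χ

theorem sum_even_eq (χ : Cfsg.IrrCharacter G) :
    ∑ a ∈ Finset.range m, mu S (2 * a) χ = mu S 0 χ + mu S m χ + 2 * sumEv S χ := by
  have e := (extE S).two_mul_half
  have hp := (extE S).half_pos
  set h := m / 2 with hh
  have hsym : ∀ a, a ≤ m → mu S (2 * (m - a)) χ = mu S (2 * a) χ := fun a ha => by
    refine (mu_congr S (Or.inr ?_) χ).symm
    rw [Nat.modEq_iff_dvd]
    obtain ⟨c, hc⟩ := t_modEq_neg (extE S) a
    refine ⟨1 - c, ?_⟩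
    push_cast at hc ⊢
    rw [Nat.cast_sub ha]
    linear_combination (-2 : ℤ) * hc
  rw [Finset.range_eq_Ico, Finset.sum_eq_sum_Ico_succ_bot (by omega),
    ← Finset.sum_Ico_consecutive _ (show 1 ≤ h + 1 by omega) (show h + 1 ≤ m by omega),
    Finset.sum_Ico_succ_top (by omega : 1 ≤ h)]
  have hb : ∑ a ∈ Finset.Ico (h + 1) m, mu S (2 * a) χ = sumEv S χ := by
    rw [sumEv, ← hh]
    refine Finset.sum_nbij' (fun a => m - a) (fun a => m - a) ?_ ?_ ?_ ?_ ?_
    · intro a ha; simp only [Finset.mem_Ico] at ha ⊢; omega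
    · intro a ha; simp only [Finset.mem_Ico] at ha ⊢; omega
    · intro a ha; simp only [Finset.mem_Ico] at ha ⊢; omega
    · intro a ha; simp only [Finset.mem_Ico] at ha ⊢; omega
    · intro a ha
      simp only [Finset.mem_Ico] at ha
      exact (hsym a (by omega)).symm
  rw [hb, e, sumEv, ← hh]
  simp only [mul_zero]
  ring

theorem sum_odd_eq (χ : Cfsg.IrrCharacter G) :
    ∑ a ∈ Finset.range m, mu S (2 * a + 1) χ = 2 * sumOd S χ := by
  have e := (extE S).two_mul_half
  have h4 := S.four_le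
  set h := m / 2 with hh
  rw [show Finset.range m = Finset.range (2 * h) from congrArg _ e.symm,
    sum_range_two_mul (fun a => mu S (2 * a + 1) χ) h]
  simp only [show ∀ a : ℕ, 2 * (2 * a) + 1 = 4 * a + 1 from fun a => by ring,
    show ∀ a : ℕ, 2 * (2 * a + 1) + 1 = 4 * a + 3 from fun a => by ring]
  have ht4 : (m - 1) % 4 = 3 := by
    obtain ⟨c, hc⟩ := (extE S).four
    omega
  have hmod : ∀ n : ℕ, (m - 1) * n % (2 * m) % 4 = 3 * n % 4 := fun n => by
    rw [Nat.mod_mod_of_dvd _ (four_dvd (extE S)), Nat.mul_mod, ht4]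
    omega
  have hinv : ∀ n : ℕ, (m - 1) * ((m - 1) * n % (2 * m)) % (2 * m) = n % (2 * m) := fun n => by
    rw [Nat.mul_mod_mod, ← mul_assoc]
    exact (((extE S).t_sq.mul_right n).trans (by rw [one_mul]) : (m - 1) * (m - 1) * n ≡ n [MOD 2 * m])
  have hb : ∑ a ∈ Finset.range h, mu S (4 * a + 3) χ = sumOd S χ := by
    rw [sumOd, ← hh]
    refine Finset.sum_nbij' (fun a => (m - 1) * (4 * a + 3) % (2 * m) / 4)
      (fun a => (m - 1) * (4 * a + 1) % (2 * m) / 4) ?_ ?_ ?_ ?_ ?_
    · intro a ha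
      have := Nat.mod_lt ((m - 1) * (4 * a + 3)) (show 0 < 2 * m by omega)
      simp only [Finset.mem_range] at ha ⊢
      omega
    · intro a ha
      have := Nat.mod_lt ((m - 1) * (4 * a + 1)) (show 0 < 2 * m by omega)
      simp only [Finset.mem_range] at ha ⊢
      omega
    · intro a ha
      simp only [Finset.mem_range] at ha
      show (m - 1) * (4 * ((m - 1) * (4 * a + 3) % (2 * m) / 4) + 1) % (2 * m) / 4 = a
      have h1 := hmod (4 * a + 3)
      rw [show 4 * ((m - 1) * (4 * a + 3) % (2 * m) / 4) + 1 = (m - 1) * (4 * a + 3) % (2 * m) by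
        omega, hinv, Nat.mod_eq_of_lt (by omega)]
      omega
    · intro a ha
      simp only [Finset.mem_range] at ha
      show (m - 1) * (4 * ((m - 1) * (4 * a + 1) % (2 * m) / 4) + 3) % (2 * m) / 4 = a
      have h1 := hmod (4 * a + 1)
      rw [show 4 * ((m - 1) * (4 * a + 1) % (2 * m) / 4) + 3 = (m - 1) * (4 * a + 1) % (2 * m) by
        omega, hinv, Nat.mod_eq_of_lt (by omega)]
      omega
    · intro a ha
      have h1 := hmod (4 * a + 3)
      refine mu_congr S (Or.inr ?_) χ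
      rw [show 4 * ((m - 1) * (4 * a + 3) % (2 * m) / 4) + 1 = (m - 1) * (4 * a + 3) % (2 * m) by
        omega]
      exact (Nat.mod_modEq _ _).symm
  rw [hb, sumOd, ← hh]
  ring

/-- The degree through the multiplicities. -/
theorem dg_eq (χ : Cfsg.IrrCharacter G) :
    dg χ = mu S 0 χ + mu S m χ + 2 * sumEv S χ + 2 * sumOd S χ := by
  rw [← sum_even_eq S, ← sum_odd_eq S, ← sum_range_two_mul (fun j => mu S j χ) m]
  apply Int.cast_injective (α := ℂ)
  rw [dg_cast, Int.cast_sum]
  simp only [mu_cast, ip]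
  rw [← classInner_sum_left]
  classical
  rw [Cfsg.classInner, Finset.sum_eq_single (1 : (P : Subgroup G))]
  · rw [Finset.sum_apply, sum_eta (extE S), if_pos rfl, card_syl S, OneMemClass.coe_one,
      conj_apply_one (isCharacter_irr χ)]
    have hm : (m : ℂ) ≠ 0 := Nat.cast_ne_zero.2 S.pos.ne'
    push_cast
    field_simp
  · intro u _ hu
    rw [Finset.sum_apply, sum_eta (extE S), if_neg hu, zero_mul]
  · exact fun h => absurd (Finset.mem_univ _) h

/-- The value at `z` through the multiplicities. -/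
theorem z_eq (χ : Cfsg.IrrCharacter G) :
    (χ : G → ℂ) (σ ^ m) =
      ((mu S 0 χ + mu S m χ + 2 * sumEv S χ - 2 * sumOd S χ : ℤ) : ℂ) := by
  have h : (mu S 0 χ + mu S m χ + 2 * sumEv S χ - 2 * sumOd S χ : ℤ) =
      ∑ j ∈ Finset.range (2 * m), (-1) ^ j * mu S j χ := by
    rw [sum_range_two_mul, ← sum_even_eq S, ← sum_odd_eq S, sub_eq_add_neg,
      ← Finset.sum_neg_distrib]
    exact congrArg₂ (· + ·) (Finset.sum_congr rfl fun a _ => by rw [pow_mul]; simp)
      (Finset.sum_congr rfl fun a _ => by rw [pow_add, pow_mul]; simp)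
  rw [h]
  push_cast
  simp only [mu_cast, ip, ← classInner_smul_left]
  rw [← classInner_sum_left]
  classical
  rw [Cfsg.classInner, Finset.sum_eq_single (sE S ^ m)]
  · have hsum : ∀ u : (P : Subgroup G),
        (∑ j ∈ Finset.range (2 * m), ((-1 : ℂ) ^ j • eta (extE S) j)) u =
          if u = sE S ^ m then (4 * m : ℂ) else 0 := fun u => by
      rw [Finset.sum_apply]
      simp only [Pi.smul_apply, smul_eq_mul, ← eta_z_mul (extE S)]
      rw [sum_eta (extE S)]
      refine if_congr ?_ rfl rfl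
      rw [← eq_inv_iff_mul_eq_one, ← inv_eq_iff_eq_inv, (extE S).z_inv, eq_comm]
    rw [hsum, if_pos rfl, card_syl S, Subgroup.coe_pow,
      show ((sE S : (P : Subgroup G)) : G) = σ from rfl, ← apply_inv (isCharacter_irr χ),
      S.ext.z_inv]
    have hm : (m : ℂ) ≠ 0 := Nat.cast_ne_zero.2 S.pos.ne'
    push_cast
    field_simp
  · intro u _ hu
    refine mul_eq_zero_of_left ?_ _
    rw [Finset.sum_apply]
    simp only [Pi.smul_apply, smul_eq_mul, ← eta_z_mul (extE S)]
    rw [sum_eta (extE S), if_neg]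
    rw [← eq_inv_iff_mul_eq_one, ← inv_eq_iff_eq_inv, (extE S).z_inv]
    exact fun e => hu e.symm
  · exact fun h => absurd (Finset.mem_univ _) h

/-- Fourier inversion on the rotations. -/
theorem apply_rot (χ : Cfsg.IrrCharacter G) (k : ℕ) :
    (χ : G → ℂ) (σ ^ k) = ∑ j ∈ Finset.range (2 * m), (mu S j χ : ℂ) * (eps m ^ k) ^ j := by
  classical
  have hpos : 0 < 2 * m := by have := S.pos; omega
  simp only [mu_cast, ip, Cfsg.classInner, Finset.mul_sum, Finset.sum_mul]
  rw [Finset.sum_comm]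
  have hχc : ∀ b : ℕ, conj ((χ : G → ℂ) (σ ^ b)) = (χ : G → ℂ) (σ ^ b)⁻¹ := fun b =>
    (apply_inv (isCharacter_irr χ) _).symm
  -- the kernel
  have hker : ∀ l : ℕ, ∑ j ∈ Finset.range (2 * m), eta (extE S) j (sE S ^ l) * (eps m ^ k) ^ j =
      (if 2 * m ∣ l + k then ((2 * m : ℕ) : ℂ) else 0) +
        (if 2 * m ∣ (m - 1) * l + k then ((2 * m : ℕ) : ℂ) else 0) := by
    intro l
    have hgeo : ∀ a : ℕ, ∑ j ∈ Finset.range (2 * m), (eps m ^ a) ^ j =
        if 2 * m ∣ a then ((2 * m : ℕ) : ℂ) else 0 := by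
      intro a
      split_ifs with hd
      · rw [((isPrimitiveRoot_eps (extE S)).pow_eq_one_iff_dvd a).mpr hd]; simp
      · rw [geom_sum_eq (fun e => hd (((isPrimitiveRoot_eps (extE S)).pow_eq_one_iff_dvd a).mp e)),
          pow_right_comm, (isPrimitiveRoot_eps (extE S)).pow_eq_one, one_pow, sub_self, zero_div]
    simp only [eta_pow, add_mul, ← mul_pow, ← pow_add, Finset.sum_add_distrib, hgeo]
  calc (χ : G → ℂ) (σ ^ k) = ∑ l ∈ Finset.range (2 * m),
        (Nat.card (P : Subgroup G) : ℂ)⁻¹ * conj ((χ : G → ℂ) (σ ^ l)) *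
        ∑ j ∈ Finset.range (2 * m), eta (extE S) j (sE S ^ l) * (eps m ^ k) ^ j := ?_
    _ = ∑ u : (P : Subgroup G), ∑ j ∈ Finset.range (2 * m),
        (Nat.card (P : Subgroup G) : ℂ)⁻¹ * (eta (extE S) j u * conj ((χ : G → ℂ) (u : G))) *
          (eps m ^ k) ^ j := ?_
  · simp only [hker, mul_add, Finset.sum_add_distrib, mul_ite, mul_zero, ← Finset.sum_filter]
    have hone : ∀ c : ℕ, (Nat.Coprime c (2 * m)) →
        ∃ l₀ < 2 * m, (Finset.range (2 * m)).filter (fun l => 2 * m ∣ c * l + k) = {l₀} := by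
      intro c hc
      obtain ⟨b, hb⟩ := Nat.exists_mul_mod_eq_one_of_coprime hc (by omega)
      refine ⟨b * (2 * m - k % (2 * m)) % (2 * m), Nat.mod_lt _ hpos, ?_⟩
      have hk := Nat.mod_lt k hpos
      have hb' : c * b ≡ 1 [MOD 2 * m] := by
        rw [Nat.ModEq, hb.2, Nat.mod_eq_of_lt (by omega)]
      have hsol : ∀ l, 2 * m ∣ c * l + k ↔ l ≡ b * (2 * m - k % (2 * m)) [MOD 2 * m] := by
        intro l
        have h0 : 2 * m - k % (2 * m) + k ≡ 0 [MOD 2 * m] := by
          refine ((Nat.mod_modEq k (2 * m)).symm.add_left _).trans ?_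
          rw [Nat.sub_add_cancel hk.le]
          exact Nat.modEq_zero_iff_dvd.2 dvd_rfl
        rw [← Nat.modEq_zero_iff_dvd]
        constructor
        · intro h
          have h1 : c * l ≡ 2 * m - k % (2 * m) [MOD 2 * m] :=
            Nat.ModEq.add_right_cancel' k (h.trans h0.symm)
          have h2 : b * (c * l) ≡ l [MOD 2 * m] := by
            rw [← mul_assoc, mul_comm b c]
            simpa using hb'.mul_right l
          exact h2.symm.trans (h1.mul_left b)
        · intro h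
          refine ((h.mul_left c).add_right k).trans ?_
          rw [← mul_assoc]
          exact (((hb'.mul_right _).trans (by rw [one_mul])).add_right k).trans h0
      ext l
      simp only [Finset.mem_filter, Finset.mem_range, Finset.mem_singleton, hsol]
      exact ⟨fun ⟨h1, h2⟩ => (Nat.mod_eq_of_lt h1).symm.trans h2,
        fun h => h ▸ ⟨Nat.mod_lt _ hpos, Nat.mod_modEq _ _⟩⟩
    obtain ⟨l₁, -, h1⟩ := hone 1 (Nat.coprime_one_left _)
    obtain ⟨l₂, -, h2⟩ := hone (m - 1) (by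
      refine Nat.Coprime.symm ?_
      obtain ⟨c, hc⟩ := (extE S).pow
      rw [hc, ← pow_succ']
      refine Nat.Coprime.pow_left _ (Nat.coprime_two_left.2 ?_)
      rw [← hc]
      exact (extE S).t_odd)
    simp only [one_mul] at h1
    rw [h1, h2, Finset.sum_singleton, Finset.sum_singleton]
    have m1 := (Finset.mem_filter.1 (h1.ge (Finset.mem_singleton_self l₁))).2
    have m2 := (Finset.mem_filter.1 (h2.ge (Finset.mem_singleton_self l₂))).2
    rw [hχc, hχc]
    have e1 : (σ ^ l₁)⁻¹ = σ ^ k := inv_eq_of_mul_eq_one_right (by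
      rw [← pow_add, ← orderOf_dvd_iff_pow_eq_one, S.ext.order]
      exact m1)
    have e2 : (χ : G → ℂ) (σ ^ l₂)⁻¹ = (χ : G → ℂ) (σ ^ k) := by
      have e3 : (σ ^ ((m - 1) * l₂))⁻¹ = σ ^ k := inv_eq_of_mul_eq_one_right (by
        rw [← pow_add, ← orderOf_dvd_iff_pow_eq_one, S.ext.order]
        exact m2)
      rw [← e3, ← S.conj_y, conj_inv]
      exact classFunction_apply_of_isConj (isClassFunction_irr χ) (isConj_iff.2 ⟨y, rfl⟩)
    rw [e1, e2, card_syl S]
    have hm : (m : ℂ) ≠ 0 := Nat.cast_ne_zero.2 S.pos.ne'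
    push_cast
    field_simp
    ring
  · rw [sum_eq_range (extE S) fun u hu => Finset.sum_eq_zero fun j _ => by
      rw [eta_of_notMem (extE S) j hu, zero_mul, mul_zero, zero_mul]]
    refine Finset.sum_congr rfl fun l _ => ?_
    rw [Finset.mul_sum]
    refine Finset.sum_congr rfl fun j _ => ?_
    rw [Subgroup.coe_pow, show ((sE S : (P : Subgroup G)) : G) = σ from rfl]
    ring

end Cfsg.Agent.Lib.SDOrder
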