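import Cfsg.Agent.Lib.SDOrder.Facts
import Cfsg.Agent.Lib.SDOrder.Facts3
import Cfsg.Agent.Lib.SDOrder.FactsG
import Cfsg.Agent.Lib.SDOrder.FactsPoint
import Cfsg.Agent.Lib.SDBlock25.Main

/-!
# `propFacts`: the facts used by the exclusion
-/

set_option autoImplicit false
set_option linter.style.haveILetI false
set_option linter.unusedSectionVars false

namespace Cfsg.Agent.Lib.SDOrder

open Cfsg.Agent.Lib.SemiQuatDefect.Group
open Matrix
open scoped MatrixGroups

universe u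

theorem sgn_mul_eq (p : ℕ) : SDBlock25.ZColumn.sgn p * (p : ℤ) = signedP p := by
  unfold SDBlock25.ZColumn.sgn signedP
  split_ifs <;> ring

theorem signedP_mul_add_one (p : ℕ) (hp : 1 ≤ p) :
    (p : ℤ) * ((signedP p + 1).natAbs : ℤ) = signedP p * (signedP p + 1) := by
  unfold signedP
  split_ifs
  · rw [show ((p : ℤ) + 1).natAbs = p + 1 by omega]
    push_cast
    ring
  · rw [show (-(p : ℤ) + 1).natAbs = p - 1 by omega]
    push_cast [Nat.cast_sub hp]
    ring

variable {G : Type u} [Group G] [Finite G] {P : Sylow 2 G} {m : ℕ} {σ y : G} {p : ℕ} [hp : Fact p.Prime]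
  {hPC : (P : Subgroup G) ≤ Subgroup.centralizer ({σ ^ m} : Set G)}
  [(Cfsg.oddCore ↥(Subgroup.centralizer ({σ ^ m} : Set G))).Normal] (hsd : SD P m σ y)
  (hC : CycOdd ↥(Subgroup.centralizer ({σ ^ m} : Set G)))
  (h : LocalHyp (P.subtype hPC) m ⟨σ, hPC hsd.ext.mem⟩ ⟨y, hPC hsd.y_mem⟩ p)

include hsd hC h

/-- The identities for the degrees. -/
theorem exists_degree_identities (hidx : ∀ H : Subgroup G, H.index ≠ 2)
    (hone : ∀ t : G, orderOf t = 2 → IsConj t (σ ^ m)) :
    ∃ A B : ℤ, (A + signedP p ^ 2) * B = -(signedP p ^ 2 * (A + 1)) ∧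
      ((Subgroup.centralizer ({σ ^ m} : Set G)).index : ℤ) *
          (Nat.card {o : ↥(Subgroup.centralizer ({σ ^ m} : Set G)) //
            o ∈ Cfsg.oddCore ↥(Subgroup.centralizer ({σ ^ m} : Set G)) ∧
              o * ⟨y, hPC hsd.y_mem⟩ = ⟨y, hPC hsd.y_mem⟩ * o} : ℤ) ^ 2 * (A + signedP p) ^ 2 =
        signedP p * (signedP p + 1) * (signedP p ^ 2 - 1) *
          (Nat.card (Cfsg.oddCore ↥(Subgroup.centralizer ({σ ^ m} : Set G))) : ℤ) ^ 2 * (A * (A + 1)) := by
  set C := Subgroup.centralizer ({σ ^ m} : Set G) with hCdef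
  set k := Nat.card (Cfsg.oddCore C) with hkdef
  set c := Nat.card {o : C // o ∈ Cfsg.oddCore C ∧ o * ⟨y, hPC hsd.y_mem⟩ = ⟨y, hPC hsd.y_mem⟩ * o}
    with hcdef
  obtain ⟨φ, hφ, hφodd, -⟩ := h.exists_cover
  have H : SDBlock25.ZColumn.Hyp hsd.sections y (cover C) φ :=
    ⟨hsd.y_mem, hsd.y_notMem, hsd.y_sq, by rw [ZMod.card]; exact hp.out.odd_of_ne_two h.odd,
      h.cover_index_two, hφ, hφodd⟩
  obtain ⟨A, B, D, -, -, -, -, -, -, -, -, e1, e2⟩ :=
    SDBlock25.Main.exists_degrees hsd.sections H (fun i hi => (hone i hi).symm) hidx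
      (ρ := (((signedP p + 1).natAbs * k : ℕ) : ℚ) / ((m : ℚ) * (c : ℚ) ^ 2))
      (fun i hi h1 hz => rho_spec hsd hC h hi h1 hz)
  rw [ZMod.card, sgn_mul_eq] at e1 e2
  have hp1 : 1 ≤ p := hp.out.one_lt.le
  refine ⟨A, B, by rw [e1]; ring, ?_⟩
  set a := (signedP p + 1).natAbs with ha
  have hc0 : (c : ℚ) ≠ 0 := by
    haveI : Nonempty {o : C // o ∈ Cfsg.oddCore C ∧
        o * ⟨y, hPC hsd.y_mem⟩ = ⟨y, hPC hsd.y_mem⟩ * o} := ⟨⟨1, one_mem _, by rw [one_mul, mul_one]⟩⟩
    exact Nat.cast_ne_zero.2 Nat.card_pos.ne'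
  have hm0 : (m : ℚ) ≠ 0 := Nat.cast_ne_zero.2 hsd.ext.pos.ne'
  have hN0 : (Nat.card C : ℚ) ≠ 0 := Nat.cast_ne_zero.2 Nat.card_pos.ne'
  have hg : (Nat.card G : ℚ) = (C.index : ℚ) * (Nat.card C : ℚ) := by
    rw [← Nat.cast_mul, Subgroup.index_mul_card]
  change (Nat.card G : ℚ) * _ = (Nat.card C : ℚ) ^ 2 * _ * _ * _ at e2
  rw [hg] at e2
  have e3 : 2 * ((C.index : ℚ) * (c : ℚ) ^ 2 * ((A + signedP p : ℤ) : ℚ) ^ 2) =
      (Nat.card C : ℚ) * (a : ℚ) * (k : ℚ) * (A : ℚ) * ((A : ℚ) + 1) := by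
    field_simp at e2
    push_cast at e2 ⊢
    linear_combination e2
  have hcard : (Nat.card C : ℤ) = 2 * ((p : ℤ) * (signedP p ^ 2 - 1)) * (k : ℤ) := by
    rw [h.card_eq]
    have e : signedP p ^ 2 - 1 = (((p - 1) * (p + 1) : ℕ) : ℤ) := by
      unfold signedP
      push_cast [Nat.cast_sub hp1]
      split_ifs <;> ring
    rw [e]
    push_cast
    ring
  have e4 : 2 * ((C.index : ℤ) * (c : ℤ) ^ 2 * (A + signedP p) ^ 2) =
      (Nat.card C : ℤ) * (a : ℤ) * (k : ℤ) * A * (A + 1) := by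
    exact_mod_cast e3
  rw [hcard] at e4
  refine mul_left_cancel₀ (two_ne_zero (α := ℤ)) ?_
  rw [e4, ← signedP_mul_add_one p hp1]
  ring

/-- The facts, given the local hypotheses. -/
theorem facts_of_localHyp (hidx : ∀ H : Subgroup G, H.index ≠ 2)
    (hone : ∀ t : G, orderOf t = 2 → IsConj t (σ ^ m)) :
    ∃ (π : ℤ) (k c : ℕ), Facts (Subgroup.centralizer ({σ ^ m} : Set G)) m σ y π k c := by
  classical
  set C := Subgroup.centralizer ({σ ^ m} : Set G) with hCdef
  set O := Cfsg.oddCore C with hOdef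
  set σ' : C := ⟨σ, hPC hsd.ext.mem⟩ with hσ'
  set y' : C := ⟨y, hPC hsd.y_mem⟩ with hy'
  have hp1 : 1 ≤ p := hp.out.one_lt.le
  have hp3 := h.shape.p_three_le
  obtain ⟨A, B, eA, eB⟩ := exists_degree_identities hsd hC h hidx hone
  have hc : Nat.card {o : C // o ∈ O ∧ (o : G) * y = y * (o : G)} =
      Nat.card {o : C // o ∈ O ∧ o * y' = y' * o} :=
    Nat.card_congr (Equiv.subtypeEquivRight fun o => and_congr_right fun _ =>
      ⟨fun e => Subtype.ext e, fun e => congrArg Subtype.val e⟩)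
  have hord : ∀ {g : G} (hg : g ∈ C), orderOf (⟨g, hg⟩ : C) = orderOf g := fun {g} hg =>
    Subgroup.orderOf_mk g hg
  have hne : ∀ {t : G} (ht : t ∈ C), t ≠ σ ^ m → (⟨t, ht⟩ : C) ≠ σ' ^ m := fun {t} ht hne e =>
    hne (congrArg Subtype.val e :)
  have hcomm : ∀ {a b : G} (ha : a ∈ C) (hb : b ∈ C), Commute a b → Commute (⟨a, ha⟩ : C) ⟨b, hb⟩ :=
    fun {a b} ha hb e => Subtype.ext e.eq
  have hp35 : signedP p ≠ 3 → 5 ≤ p := by
    intro hne
    by_contra hlt
    have h3 : p = 3 := by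
      rcases h.shape.odd_p with h4 | h4 <;> omega
    exact hne (by rw [h3]; rfl)
  refine ⟨signedP p, Nat.card O, _, ⟨by rw [natAbs_signedP]; exact hp.out, h.signedP_emod_four, rfl, rfl,
    ?_, ⟨A, B, eA, by rw [hc]; exact eB⟩, ?_, ?_, ?_, ?_, ?_⟩⟩
  · rw [natAbs_signedP, natAbs_signedP_sq p hp1, h.card_eq]
    ring
  · intro h3 g hgC hg t htC ht htz htg
    have hp3' : p = 3 := by rw [← natAbs_signedP p, h3]; rfl
    exact hne htC htz (h.eq_z_three hC hp3' (g := ⟨g, hgC⟩) (by rw [hord hgC, hg])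
      (by rw [hord htC, ht]) (hcomm htC hgC htg))
  · intro hπ
    have h5 := hp35 hπ
    refine ⟨by rw [natAbs_signedP]; exact h.not_dvd hC h5 hp.out (dvd_mul_right _ _),
      h.not_dvd hC h5 Nat.prime_three ?_⟩
    have h3 : ¬ 3 ∣ p := fun hd => by
      have := (Nat.prime_dvd_prime_iff_eq Nat.prime_three hp.out).1 hd
      omega
    refine dvd_mul_of_dvd_right ?_ p
    rcases (show p % 3 = 1 ∨ p % 3 = 2 by omega) with h1 | h1
    · exact dvd_mul_of_dvd_left (Nat.dvd_of_mod_eq_zero (by omega)) _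
    · exact dvd_mul_of_dvd_right (Nat.dvd_of_mod_eq_zero (by omega)) _
  · intro h5 g hgC hg
    have hp5 : p = 5 := by rw [← natAbs_signedP p, h5]; rfl
    refine ⟨fun t htC ht htz htg => hne htC htz (h.eq_z_five hC hp5 (g := ⟨g, hgC⟩) (by rw [hord hgC, hg])
      (by rw [hord htC, ht]) (hcomm htC hgC htg)), fun hk => ?_⟩
    obtain ⟨hcg, hng⟩ := h.card_centralizer_order_p hk (g := ⟨g, hgC⟩) (by rw [hord hgC, hg, hp5])
    subst hp5
    refine ⟨?_, ?_⟩
    · rw [show (10 : ℕ) = 2 * 5 from rfl, ← hcg]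
      refine Nat.card_congr ⟨fun v => ⟨⟨v.1, v.2.2⟩, ?_⟩, fun v => ⟨v.1.1, ?_, v.1.2⟩, fun _ => rfl,
        fun _ => rfl⟩
      · exact Subgroup.mem_centralizer_singleton_iff.2
          (Subtype.ext (Subgroup.mem_centralizer_singleton_iff.1 v.2.1))
      · exact Subgroup.mem_centralizer_singleton_iff.2
          (congrArg Subtype.val (Subgroup.mem_centralizer_singleton_iff.1 v.2) :)
    · rw [show (40 : ℕ) = 2 * (5 * (5 - 1)) from rfl, ← hng]
      have key : ∀ v : C, v ∈ Subgroup.normalizer ((Subgroup.zpowers (⟨g, hgC⟩ : C)) : Set C) ↔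
          (v : G) ∈ Subgroup.normalizer ((Subgroup.zpowers g : Subgroup G) : Set G) := by
        intro v
        rw [Subgroup.mem_normalizer_iff_map_conj_eq, Subgroup.mem_normalizer_iff_map_conj_eq,
          MonoidHom.map_zpowers, MonoidHom.map_zpowers]
        constructor
        · intro e
          have h1 := congrArg (Subgroup.map C.subtype) e
          rw [MonoidHom.map_zpowers, MonoidHom.map_zpowers] at h1
          exact h1
        · intro e
          refine Subgroup.map_injective C.subtype_injective ?_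
          rw [MonoidHom.map_zpowers, MonoidHom.map_zpowers]
          exact e
      exact Nat.card_congr ⟨fun v => ⟨⟨v.1, v.2.2⟩, (key _).2 v.2.1⟩,
        fun v => ⟨v.1.1, (key _).1 v.2, v.1.2⟩, fun _ => rfl, fun _ => rfl⟩
  · intro h5 g hgσ hg
    have hp5 : p = 5 := by rw [← natAbs_signedP p, h5]; rfl
    have hm4 := hsd.four_le
    have h1 : σ' ^ 2 ≠ 1 := fun e => by
      have := Nat.le_of_dvd two_pos (orderOf_dvd_of_pow_eq_one (congrArg Subtype.val e : σ ^ 2 = 1))
      rw [hsd.ext.order] at this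
      omega
    have hz : σ' ^ 2 ≠ σ' ^ m := fun e => by
      have h2 := hsd.ext.pow_eq_pow.1 (congrArg Subtype.val e : σ ^ 2 = σ ^ m)
      rw [Nat.ModEq, Nat.mod_eq_of_lt (show 2 < 2 * m by omega),
        Nat.mod_eq_of_lt (show m < 2 * m by omega)] at h2
      omega
    obtain ⟨hvs, hvL, hv2, -⟩ := h.map_rot (i := 2) even_two h1 hz
    set π := QuotientGroup.mk' O
    have hd : orderOf (π g) ∣ 8 := by
      have := Subgroup.orderOf_dvd_natCard
        (Subgroup.centralizer ({π (σ' ^ 2)} : Set (C ⧸ O))) (x := π g) (by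
          rw [Subgroup.mem_centralizer_singleton_iff, ← map_mul, ← map_mul]
          exact congrArg π (Subtype.ext hgσ.eq))
      rw [h.shape.card_centralizer_rot hvs hvL hv2] at this
      subst hp5
      simpa using this
    refine (QuotientGroup.eq_one_iff g).1 (orderOf_eq_one_iff.1 (Nat.eq_one_of_dvd_coprimes
      (Nat.coprime_two_left.2 hg |>.pow_left 3) hd (orderOf_map_dvd π g)))
  · intro hck o ho
    rw [hc] at hck
    have hall : ∀ a ∈ O, a * y' = y' * a := by
      intro a ha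
      have hsurj : Function.Bijective
          (fun b : {o : C // o ∈ O ∧ o * y' = y' * o} => (⟨b.1, b.2.1⟩ : O)) :=
        Function.Injective.bijective_of_nat_card_le
          (fun b b' e => Subtype.ext (congrArg Subtype.val e :)) hck.ge
      obtain ⟨b, hb⟩ := hsurj.2 ⟨a, ha⟩
      rw [← show b.1 = a from congrArg Subtype.val hb]
      exact b.2.2
    have hmem : σ' * y' ∈ cover C := by
      rw [mem_cover, map_mul, Subgroup.mul_mem_iff_of_index_two h.shape.index_two]
      exact iff_of_false h.shape.s_notMem_L h.shape.w_notMem_L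
    obtain ⟨j, hj⟩ := (P.subtype hPC).2 ⟨σ' * y', mul_mem h.sd.ext.mem h.sd.y_mem⟩
    have h1 : Commute (σ' * y') o := LocalHyp.comm_core_two hC hmem (congrArg Subtype.val hj :) ho
    have h2 : Commute o y' := hall o ho
    have h3 : Commute o σ' := by
      have := h1.symm.mul_right h2
      rwa [mul_assoc, show y' * y' = 1 from Subtype.ext hsd.y_sq, mul_one] at this
    exact Subtype.ext_iff.1 h3.eq

omit hsd hC h in
/-- The statement used by the exclusion. -/
theorem propFacts : PropFacts.{u} := by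
  intro hGW G _ _ P m σ y hsd hidx hone hcyc
  have hPC : (P : Subgroup G) ≤ Subgroup.centralizer ({σ ^ m} : Set G) := fun v hv =>
    Subgroup.mem_centralizer_singleton_iff.2 (hsd.ext.z_comm hv)
  haveI : (Cfsg.oddCore ↥(Subgroup.centralizer ({σ ^ m} : Set G))).Normal := oddCore_normal'
  obtain ⟨p, hp, hC, h⟩ := exists_localHyp hGW hsd hidx hcyc hPC
  haveI := hp
  exact facts_of_localHyp hsd hC h hidx hone

end Cfsg.Agent.Lib.SDOrder
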